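import Cfsg.Prelude.Def_Classical
import Mathlib

/-!
The projective special unitary group depends only on the field up to isomorphism.
-/

set_option autoImplicit false

namespace Cfsg.Agent.MonomialMult

open Matrix

universe u v

variable {F : Type u} {K : Type v} [Field F] [Field K] {n q : ℕ}

theorem herm_field_map (f : F ≃+* K) (x y : Fin n → F) :
    f (Cfsg.hermForm n F q x y) = Cfsg.hermForm n K q (fun i => f (x i)) (fun i => f (y i)) := by
  simp [Cfsg.hermForm, map_sum]

theorem mem_SU_field_map (f : F ≃+* K) {g : Matrix.SpecialLinearGroup (Fin n) F} (hg : g ∈ Cfsg.SU n F q) :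
    Matrix.SpecialLinearGroup.map f.toRingHom g ∈ Cfsg.SU n K q := by
  intro x y
  have key : ∀ x : Fin n → K, Cfsg.slToMat n K (Matrix.SpecialLinearGroup.map f.toRingHom g) *ᵥ x =
      fun i => f ((Cfsg.slToMat n F g *ᵥ fun j => f.symm (x j)) i) := fun x => by
    funext i
    simp [Cfsg.slToMat, Matrix.mulVec, dotProduct, map_sum]
  rw [key, key, ← herm_field_map, hg, herm_field_map]
  simp

/-- The special unitary groups over isomorphic fields. -/
def suFieldMap (f : F ≃+* K) : Cfsg.SU n F q ≃* Cfsg.SU n K q where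
  toFun g := ⟨Matrix.SpecialLinearGroup.map f.toRingHom g, mem_SU_field_map f g.2⟩
  invFun g := ⟨Matrix.SpecialLinearGroup.map f.symm.toRingHom g, mem_SU_field_map f.symm g.2⟩
  left_inv g := Subtype.ext (Subtype.ext (Matrix.ext fun a b => f.symm_apply_apply _))
  right_inv g := Subtype.ext (Subtype.ext (Matrix.ext fun a b => f.apply_symm_apply _))
  map_mul' g h := Subtype.ext (map_mul _ _ _)

theorem psu_field_equiv (f : F ≃+* K) : Nonempty (Cfsg.PSU n F q ≃* Cfsg.PSU n K q) := by
  refine ⟨QuotientGroup.congr _ _ (suFieldMap f) ?_⟩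
  ext b
  simp only [Subgroup.mem_map, Subgroup.mem_center_iff]
  constructor
  · rintro ⟨a, ha, rfl⟩ g
    obtain ⟨g, rfl⟩ := (suFieldMap f).surjective g
    show suFieldMap f g * suFieldMap f a = suFieldMap f a * suFieldMap f g
    rw [← map_mul, ← map_mul, ha]
  · intro hb
    exact ⟨(suFieldMap f).symm b, fun g => (suFieldMap f).injective
      (by rw [map_mul, map_mul, (suFieldMap f).apply_symm_apply, hb]), (suFieldMap f).apply_symm_apply b⟩

end Cfsg.Agent.MonomialMult
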