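import Cfsg.Agent.Lib.PcMult.Forms

/-!
Linear forms modulo eight as three planes of bits, added with half adders.
-/

set_option autoImplicit false

namespace Cfsg.Agent.MonomialMult

open Cfsg.Agent.Lib.PcMult

/-- The sum of two forms given by planes of bits. -/
def octAdd (a b : ℕ × ℕ × ℕ) : ℕ × ℕ × ℕ :=
  frc a.1 fun a0 => frc b.1 fun b0 => frc a.2.1 fun a1 => frc b.2.1 fun b1 => frc a.2.2 fun a2 => frc b.2.2 fun b2 =>
    frc (a0 ^^^ b0) fun s0 => frc (a0 &&& b0) fun c0 => frc (a1 ^^^ b1) fun x =>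
      frc (x ^^^ c0) fun s1 => frc (a2 ^^^ b2 ^^^ ((a1 &&& b1) ^^^ (x &&& c0))) fun s2 => (s0, s1, s2)

/-- Forms modulo eight. -/
def octOps : Ops (ℕ × ℕ × ℕ) where
  zero := (0, 0, 0)
  add := octAdd
  unit v := (1 <<< v, 0, 0)
  isZero a := a.1 == 0 && a.2.1 == 0 && a.2.2 == 0
  hold a k := frc a.1 fun x => frc a.2.1 fun y => frc a.2.2 fun z => k (x, y, z)

variable {K : Type*} [CommGroup K]

/-- The value of a form. -/
def evOct (τ : ℕ → K) (a : ℕ × ℕ × ℕ) : K :=
  evBits τ a.1 * evBits (fun v => τ v ^ 2) a.2.1 * evBits (fun v => τ v ^ 4) a.2.2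

theorem evBits_zero (τ : ℕ → K) : evBits τ 0 = 1 := by rw [evBits]; simp

theorem evBits_one_fun : ∀ a : ℕ, evBits (fun _ => (1 : K)) a = 1 := by
  intro a
  induction a using Nat.strong_induction_on with
  | _ a ih =>
    rcases Nat.eq_zero_or_pos a with rfl | ha
    · exact evBits_zero _
    · rw [evBits_eq, ih (a / 2) (Nat.div_lt_self ha (Nat.lt_succ_self 1)), one_pow, one_mul]

theorem evBits_half : ∀ (a b : ℕ) (τ : ℕ → K),
    evBits τ a * evBits τ b = evBits τ (a ^^^ b) * evBits (fun v => τ v ^ 2) (a &&& b) := by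
  intro a
  induction a using Nat.strong_induction_on with
  | _ a ih =>
    intro b τ
    rcases Nat.eq_zero_or_pos a with rfl | ha
    · rw [Nat.zero_xor, Nat.zero_and, evBits_zero, evBits_zero, one_mul, mul_one]
    · rw [evBits_eq τ a, evBits_eq τ b, evBits_eq τ (a ^^^ b), evBits_eq (fun v => τ v ^ 2) (a &&& b),
        Nat.xor_div_two, Nat.and_div_two, mul_mul_mul_comm,
        ih (a / 2) (Nat.div_lt_self ha (Nat.lt_succ_self 1)) (b / 2) fun v => τ (v + 1)]
      have e : a % 2 + b % 2 = (a ^^^ b) % 2 + 2 * ((a &&& b) % 2) := by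
        rw [← Nat.pow_one 2, Nat.xor_mod_two_pow, Nat.and_mod_two_pow, Nat.pow_one]
        rcases Nat.mod_two_eq_zero_or_one a with h | h <;> rcases Nat.mod_two_eq_zero_or_one b with h' | h' <;>
          rw [h, h'] <;> rfl
      rw [← pow_add, e, pow_add, pow_mul, mul_mul_mul_comm]

theorem octOps_valid (hK : ∀ z : K, z ^ 8 = 1) (τ : ℕ → K) : octOps.Valid 8 τ (evOct τ) where
  ev_zero := by simp [octOps, evOct, evBits_zero]
  ev_add a b := by
    obtain ⟨a0, a1, a2⟩ := a
    obtain ⟨b0, b1, b2⟩ := b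
    simp only [octOps, octAdd, frc_eq, evOct]
    set σ : ℕ → K := fun v => τ v ^ 2 with hσ
    set ω : ℕ → K := fun v => τ v ^ 4 with hω
    have hσ2 : (fun v => σ v ^ 2) = ω := funext fun v => by
      simp only [hσ, hω, ← pow_mul]
    have hω2 : (fun v => ω v ^ 2) = fun _ => (1 : K) := funext fun v => by
      simp only [hω, ← pow_mul]
      exact hK _
    have hw : ∀ x y, evBits ω (x ^^^ y) = evBits ω x * evBits ω y := fun x y => by
      rw [evBits_half x y ω, hω2, evBits_one_fun, mul_one]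
    have h0 := evBits_half a0 b0 τ
    rw [← hσ] at h0
    have h1 := evBits_half a1 b1 σ
    rw [hσ2] at h1
    have h2 := evBits_half (a1 ^^^ b1) (a0 &&& b0) σ
    rw [hσ2] at h2
    rw [hw, hw, hw]
    symm
    calc evBits τ a0 * evBits σ a1 * evBits ω a2 * (evBits τ b0 * evBits σ b1 * evBits ω b2)
        = evBits τ a0 * evBits τ b0 * (evBits σ a1 * evBits σ b1) * (evBits ω a2 * evBits ω b2) := by
          simp only [mul_comm, mul_left_comm, mul_assoc]
      _ = evBits τ (a0 ^^^ b0) * evBits σ (a0 &&& b0) * (evBits σ (a1 ^^^ b1) * evBits ω (a1 &&& b1)) *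
            (evBits ω a2 * evBits ω b2) := by rw [h0, h1]
      _ = evBits τ (a0 ^^^ b0) * (evBits σ (a1 ^^^ b1) * evBits σ (a0 &&& b0)) * evBits ω (a1 &&& b1) *
            (evBits ω a2 * evBits ω b2) := by simp only [mul_comm, mul_left_comm, mul_assoc]
      _ = _ := by rw [h2]; simp only [mul_comm, mul_left_comm, mul_assoc]
  ev_unit v := by
    show evBits τ (1 <<< v) * evBits _ 0 * evBits _ 0 = τ v
    rw [evBits_zero, evBits_zero, mul_one, mul_one]
    induction v generalizing τ with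
    | zero => rw [evBits_eq, evBits]; simp
    | succ v ih =>
      rw [evBits_eq, show (1 <<< (v + 1)) % 2 = 0 by simp [Nat.shiftLeft_eq, Nat.pow_succ],
        show (1 <<< (v + 1)) / 2 = 1 <<< v by simp [Nat.shiftLeft_eq, Nat.pow_succ], ih, pow_zero, one_mul]
  ev_isZero a h := by
    simp only [octOps, Bool.and_eq_true, beq_iff_eq] at h
    simp [evOct, h.1.1, h.1.2, h.2, evBits_zero]
  hold_eq a k := by simp only [octOps, frc_eq]

end Cfsg.Agent.MonomialMult
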