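import Mathlib

/-!
A field with nine elements on which everything evaluates: pairs modulo three with `w * w = w + 1`.
-/

set_option autoImplicit false
set_option maxRecDepth 10000

namespace Cfsg.Agent.MonomialMult

/-- The field with nine elements. -/
structure Nine where
  v : Fin 9
  deriving DecidableEq

namespace Nine

/-- Reading an element from its code `a + 3 b`. -/
def ofN (k : ℕ) : Nine := ⟨⟨k % 9, Nat.mod_lt _ (by norm_num)⟩⟩

/-- The code. -/
def toN (x : Nine) : ℕ := x.v.1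

/-- Addition of codes. -/
def addN (x y : ℕ) : ℕ := (x % 3 + y % 3) % 3 + 3 * ((x / 3 + y / 3) % 3)

/-- Negation of a code. -/
def negN (x : ℕ) : ℕ := (3 - x % 3) % 3 + 3 * ((3 - x / 3) % 3)

/-- Multiplication of codes. -/
def mulN (x y : ℕ) : ℕ :=
  (x % 3 * (y % 3) + x / 3 * (y / 3)) % 3 +
    3 * ((x % 3 * (y / 3) + x / 3 * (y % 3) + x / 3 * (y / 3)) % 3)

/-- The cube of a code. -/
def barN (x : ℕ) : ℕ := mulN (mulN x x) x

/-- The inverse of a code. -/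
def invN (x : ℕ) : ℕ := mulN (mulN (barN x) (barN x)) x

instance : Fintype Nine := Fintype.ofEquiv (Fin 9) ⟨Nine.mk, Nine.v, fun _ => rfl, fun _ => rfl⟩
instance : Add Nine := ⟨fun a b => ofN (addN a.toN b.toN)⟩
instance : Mul Nine := ⟨fun a b => ofN (mulN a.toN b.toN)⟩
instance : Zero Nine := ⟨ofN 0⟩
instance : One Nine := ⟨ofN 1⟩
instance : Neg Nine := ⟨fun a => ofN (negN a.toN)⟩
instance : Inv Nine := ⟨fun a => ofN (invN a.toN)⟩

theorem laws : (∀ a b c : Nine, a + b + c = a + (b + c) ∧ a * b * c = a * (b * c) ∧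
      a * (b + c) = a * b + a * c ∧ (a + b) * c = a * c + b * c) ∧
    (∀ a b : Nine, a + b = b + a ∧ a * b = b * a) ∧
    (∀ a : Nine, 0 + a = a ∧ a + 0 = a ∧ -a + a = 0 ∧ 1 * a = a ∧ a * 1 = a ∧ 0 * a = 0 ∧ a * 0 = 0 ∧
      (a ≠ 0 → a * a⁻¹ = 1)) ∧ ((0 : Nine)⁻¹ = 0 ∧ (0 : Nine) ≠ 1) := by
  decide +kernel

instance : CommRing Nine where
  add_assoc a b c := (laws.1 a b c).1
  zero_add a := (laws.2.2.1 a).1
  add_zero a := (laws.2.2.1 a).2.1
  add_comm a b := (laws.2.1 a b).1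
  neg_add_cancel a := (laws.2.2.1 a).2.2.1
  mul_assoc a b c := (laws.1 a b c).2.1
  one_mul a := (laws.2.2.1 a).2.2.2.1
  mul_one a := (laws.2.2.1 a).2.2.2.2.1
  mul_comm a b := (laws.2.1 a b).2
  zero_mul a := (laws.2.2.1 a).2.2.2.2.2.1
  mul_zero a := (laws.2.2.1 a).2.2.2.2.2.2.1
  left_distrib a b c := (laws.1 a b c).2.2.1
  right_distrib a b c := (laws.1 a b c).2.2.2
  nsmul := nsmulRec
  zsmul := zsmulRec

instance : Field Nine where
  exists_pair_ne := ⟨0, 1, laws.2.2.2.2⟩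
  mul_inv_cancel a h := (laws.2.2.1 a).2.2.2.2.2.2.2 h
  inv_zero := laws.2.2.2.1
  qsmul := _
  nnqsmul := _

theorem card : Fintype.card Nine = 3 ^ 2 := rfl

theorem spec : (∀ a : Nine, toN a < 9 ∧ ofN (toN a) = a) ∧
    (∀ k < 9, toN (ofN k) = k) ∧ (ofN 0 = 0 ∧ ofN 1 = 1) ∧
    (∀ a < 9, ∀ b < 9, addN a b < 9 ∧ mulN a b < 9 ∧ ofN (addN a b) = ofN a + ofN b ∧
      ofN (mulN a b) = ofN a * ofN b) ∧
    ∀ a < 9, barN a < 9 ∧ ofN (barN a) = ofN a * ofN a * ofN a := by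
  decide +kernel

end Nine

end Cfsg.Agent.MonomialMult
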