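import Cfsg.Agent.Lib.MonomialMult.UnitaryCover
import Cfsg.Agent.Lib.Classical.UnitaryFrames

/-!
The number of elements of a kernel from bounds at every prime.
-/

set_option autoImplicit false

namespace Cfsg.Agent.MonomialMult

/-- A number below the prime powers of another divides it. -/
theorem dvd_of_primes {N M : ℕ} (hN : N ≠ 0) (hM : M ≠ 0)
    (h : ∀ p : ℕ, p.Prime → ¬ p ^ (M.factorization p + 1) ∣ N) : N ∣ M := by
  refine (Nat.factorization_le_iff_dvd hN hM).1 fun p => ?_
  by_cases hp : p.Prime
  · by_contra hlt
    exact h p hp ((hp.pow_dvd_iff_le_factorization hN).2 (by omega))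
  · rw [Nat.factorization_eq_zero_of_not_prime N hp]
    exact Nat.zero_le _

/-- The exponent of a prime in a number given with that factor split off. -/
theorem factorization_split {p k a : ℕ} (hp : p.Prime) (ha : ¬ p ∣ a) : (p ^ k * a).factorization p = k := by
  have ha0 : a ≠ 0 := fun e => ha (e ▸ dvd_zero p)
  rw [Nat.factorization_mul (pow_ne_zero _ hp.ne_zero) ha0, Finsupp.add_apply, hp.factorization_pow,
    Finsupp.single_eq_same, Nat.factorization_eq_zero_of_not_dvd ha, Nat.add_zero]

end Cfsg.Agent.MonomialMult
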