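import Cfsg.Agent.Lib.MonomialMult.Unitary

/-!
Products of transvections on codes: their permutations of the points, and generation of the projective group.
-/

set_option autoImplicit false
set_option linter.unusedSectionVars false

namespace Cfsg.Agent.MonomialMult

open Cfsg.Agent.Classical.Unitary Matrix

variable {F : Type} [Field F] [Fintype F] [DecidableEq F] {q n : ℕ} (C : Cod F q) (D : Pts)

/-- A transvection given by codes. -/
def tvB (n : ℕ) (t : ℕ × ℕ) : Bool :=
  decide (t.2 < C.N) && C.hN n t.1 t.1 == 0 && C.addN t.2 (C.barN t.2) == 0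

/-- A product of transvections on a code. -/
def appW (n : ℕ) (w : List (ℕ × ℕ)) (x : ℕ) : ℕ := w.foldr (fun t y => C.transN n t.1 t.2 y) x

/-- A multiple of a code by a natural number. -/
def timesN (k c : ℕ) : ℕ := (List.range k).foldr (fun _ y => C.addN c y) 0

variable {C D} (hG : Good C D n)
include hG

theorem trace_of {t : ℕ} (ht : t < C.N) (h : C.addN t (C.barN t) = 0) : C.ofN t + C.ofN t ^ q = 0 := by
  obtain ⟨h1, h2⟩ := C.bar_spec t ht
  rw [← h2, ← (C.add_spec _ ht _ h1).2, h, C.ofN_zero]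

theorem tvB_spec {t : ℕ × ℕ} (h : tvB C n t = true) :
    Cfsg.hermForm n F q (C.vec n t.1) (C.vec n t.1) = 0 ∧ C.ofN t.2 + C.ofN t.2 ^ q = 0 := by
  simp only [tvB, Bool.and_eq_true, decide_eq_true_eq, beq_iff_eq] at h
  exact ⟨by rw [herm_eq hG, h.1.2, C.ofN_zero], trace_of hG h.1.1 h.2⟩

/-- The element of a transvection. -/
noncomputable def tvC (t : ℕ × ℕ) : Cfsg.SU n F q :=
  if h : tvB C n t = true then tvu hG.hF (tvB_spec hG h).1 (tvB_spec hG h).2 else 1

/-- The element of a word. -/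
noncomputable def wordC (w : List (ℕ × ℕ)) : Cfsg.SU n F q := (w.map (tvC hG)).prod

theorem tvC_vec {t : ℕ × ℕ} (h : tvB C n t = true) (x : ℕ) :
    mat (tvC hG t) *ᵥ C.vec n x = C.vec n (C.transN n t.1 t.2 x) := by
  have hc : t.2 < C.N := by
    simp only [tvB, Bool.and_eq_true, decide_eq_true_eq] at h
    exact h.1.1
  rw [tvC, dif_pos h, tvu_mulVec, C.vec_transN hc]
  rfl

theorem wordC_vec : ∀ {w : List (ℕ × ℕ)}, (∀ t ∈ w, tvB C n t = true) → ∀ x : ℕ,
    mat (wordC hG w) *ᵥ C.vec n x = C.vec n (appW C n w x)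
  | [], _, x => by
    show mat (1 : Cfsg.SU n F q) *ᵥ _ = _
    rw [mat_one, one_mulVec]
    rfl
  | t :: w, h, x => by
    show mat (tvC hG t * wordC hG w) *ᵥ _ = _
    rw [mul_mulVec, wordC_vec (fun s hs => h s (List.mem_cons_of_mem _ hs)),
      tvC_vec hG (h t List.mem_cons_self)]
    rfl

theorem appW_lt : ∀ {w : List (ℕ × ℕ)}, (∀ t ∈ w, tvB C n t = true) → ∀ {x : ℕ}, x < C.N ^ n →
    appW C n w x < C.N ^ n
  | [], _, _, hx => hx
  | t :: w, h, _, _ => by
    have hc : t.2 < C.N := by
      have := h t List.mem_cons_self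
      simp only [tvB, Bool.and_eq_true, decide_eq_true_eq] at this
      exact this.1.1
    exact C.transN_lt n hc _ _

theorem pt_lt (y : Fin D.m) : D.pt y < C.N ^ n := by
  have h := hG.tabs
  simp only [ptsB, Bool.and_eq_true] at h
  have h' := below_spec h.1.2 y y.2
  simp only [Bool.and_eq_true, decide_eq_true_eq] at h'
  exact h'.1.1

theorem iso_lt {z : ℕ} (hz : z < D.m') : D.iso z < C.N ^ n ∧ D.iso z ≠ 0 := by
  have h := hG.tabs
  simp only [ptsB, Bool.and_eq_true] at h
  have h' := below_spec h.2 z hz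
  simp only [Bool.and_eq_true, decide_eq_true_eq, Bool.not_eq_true', beq_eq_false_iff_ne] at h'
  exact h'.1

variable (hn : 2 ≤ n)

/-- The class in the projective group. -/
noncomputable def wordP (w : List (ℕ × ℕ)) : Cfsg.PSU n F q :=
  QuotientGroup.mk' (Subgroup.center (Cfsg.SU n F q)) (wordC hG w)

theorem wordP_apply {w : List (ℕ × ℕ)} (h : ∀ t ∈ w, tvB C n t = true) (y : Fin D.m) :
    ((psuPerm hG hn (wordP hG w) y : Fin D.m) : ℕ) = D.idx (appW C n w (D.pt y)) := by
  show ((move hG (wordC hG w) y : Fin D.m) : ℕ) = _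
  have e := wordC_vec hG h (D.pt y)
  have h0 : C.hN n (appW C n w (D.pt y)) (appW C n w (D.pt y)) ≠ 0 := fun h0 => by
    have := SU_H (wordC hG w) (C.vec n (D.pt y)) (C.vec n (D.pt y))
    rw [e, herm_eq hG, h0, C.ofN_zero, pt_norm hG] at this
    exact zero_ne_one this
  obtain ⟨h1, s, hs, h2⟩ := (pts_dec hG _ (appW_lt hG h (pt_lt hG y))).1 h0
  rw [move_eq hG (z := ⟨_, h1⟩) hs (e.trans h2)]

omit hG in
/-- The tree of isotropic points under the generators. -/
def treeB (n : ℕ) (D : Pts) (ws : List (List (ℕ × ℕ))) (step : ℕ → ℕ × ℕ) (c0 : ℕ) : Bool :=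
  ws.all (fun w => w.all (tvB C n)) && tvB C n (D.iso 0, c0) &&
  below (fun z => z == 0 || (decide ((step z).1 < z) && decide ((step z).2 < ws.length) &&
    multB C n (appW C n (ws.getD (step z).2 []) (D.iso (step z).1)) (D.iso z))) D.m' &&
  below (fun c => !(C.addN c (C.barN c) == 0) || (List.range C.N).any fun k => timesN C k c0 == c) C.N

theorem times_spec {c0 : ℕ} (h0 : c0 < C.N) : ∀ k, timesN C k c0 < C.N ∧
    C.ofN (timesN C k c0) = (k : F) * C.ofN c0
  | 0 => ⟨C.N_pos, by simp [timesN, C.ofN_zero]⟩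
  | k + 1 => by
    obtain ⟨h1, h2⟩ := times_spec h0 k
    have e : timesN C (k + 1) c0 = C.addN c0 (timesN C k c0) := by
      have hl : ∀ (l : List ℕ), l.foldr (fun _ y => C.addN c0 y) (C.addN c0 0) =
          C.addN c0 (l.foldr (fun _ y => C.addN c0 y) 0) := by
        intro l
        induction l with
        | nil => rfl
        | cons a l ih => rw [List.foldr_cons, List.foldr_cons, ih]
      rw [timesN, List.range_succ, List.foldr_append, List.foldr_cons, List.foldr_nil, hl]
      rfl
    obtain ⟨h3, h4⟩ := C.add_spec _ h0 _ h1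
    exact ⟨e ▸ h3, by rw [e, h4, h2]; push_cast; ring⟩

/-- A subgroup with the generators and one root group is everything. -/
theorem eq_top_of_tree (hn3 : ¬ (n = 3 ∧ q = 2)) (hn1 : 1 ≤ n) {ws : List (List (ℕ × ℕ))} {step : ℕ → ℕ × ℕ}
    {c0 : ℕ} (hB : treeB (C := C) n D ws step c0 = true) (L : Subgroup (Cfsg.PSU n F q))
    (hws : ∀ w ∈ ws, wordP hG w ∈ L) (h0 : wordP hG [(D.iso 0, c0)] ∈ L) : L = ⊤ := by
  simp only [treeB, Bool.and_eq_true, List.all_eq_true] at hB
  obtain ⟨⟨⟨hwB, h0B⟩, hstep⟩, hsc⟩ := hB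
  have h0' := h0B
  simp only [tvB, Bool.and_eq_true, decide_eq_true_eq, beq_iff_eq] at h0'
  let π := QuotientGroup.mk' (Subgroup.center (Cfsg.SU n F q))
  let M : Subgroup (Cfsg.SU n F q) := L.comap π
  suffices hM : tvGroup F q n ≤ M by
    rw [eq_top_iff]
    intro x _
    obtain ⟨g, rfl⟩ := QuotientGroup.mk'_surjective _ x
    exact hM (tvGroup_eq_top hG.hF hn1 hn3 ▸ Subgroup.mem_top g)
  have hconj : ∀ z < D.m', ∀ g, g ∈ tvAt F q (C.vec n (D.iso z)) → g ∈ M := by
    intro z
    induction z using Nat.strong_induction_on with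
    | _ z ih =>
      intro hz g hg
      by_cases hz0 : z = 0
      · subst hz0
        obtain ⟨c, hc, rfl⟩ := tvu_eq_of_mem hG.hF (iso_norm hG hz) hg
        have hcN := C.toN_lt c
        have h := below_spec hsc _ hcN
        have htr : C.addN (C.toN c) (C.barN (C.toN c)) = 0 := by
          obtain ⟨b1, b2⟩ := C.bar_spec _ hcN
          obtain ⟨a1, a2⟩ := C.add_spec _ hcN _ b1
          rw [← C.toN_ofN _ a1, a2, b2, C.ofN_toN, hc, ← C.ofN_zero, C.toN_ofN 0 C.N_pos]
        simp only [htr, beq_self_eq_true, Bool.not_true, Bool.false_or, List.any_eq_true, List.mem_range,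
          beq_iff_eq] at h
        obtain ⟨k, -, hk⟩ := h
        have hc' : c = (k : F) * C.ofN c0 := by rw [← (times_spec hG h0'.1.1 k).2, hk, C.ofN_toN]
        have hpow : ∀ j : ℕ, ∀ x : Fin n → F, mat (tvC hG (D.iso 0, c0) ^ j) *ᵥ x =
            x + ((j : F) * C.ofN c0 * Cfsg.hermForm n F q x (C.vec n (D.iso 0))) • C.vec n (D.iso 0) := by
          intro j
          induction j with
          | zero => intro x; rw [pow_zero, mat_one, one_mulVec]; simp
          | succ j ihj =>
            intro x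
            rw [pow_succ', mul_mulVec, ihj, tvC, dif_pos h0B, tvu_mulVec, H_add_left, H_smul_left,
              iso_norm hG hz]
            push_cast
            module
        have e : tvu hG.hF (iso_norm hG hz) hc = tvC hG (D.iso 0, c0) ^ k :=
          SU_ext fun x => by rw [tvu_mulVec, hpow, hc']
        rw [e]
        refine pow_mem ?_ k
        show π _ ∈ L
        have := h0
        rwa [wordP, wordC, List.map_cons, List.map_nil, List.prod_cons, List.prod_nil, mul_one] at this
      · have hs := below_spec hstep z hz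
        simp only [Bool.or_eq_true, Bool.and_eq_true, decide_eq_true_eq, beq_iff_eq, hz0, false_or] at hs
        obtain ⟨⟨hlt, hk⟩, hm⟩ := hs
        have hw : ws.getD (step z).2 [] ∈ ws := by
          rw [List.getD_eq_getElem _ _ hk]; exact List.getElem_mem hk
        obtain ⟨s, hs0, hs⟩ := multB_spec C hm
        set g0 := wordC hG (ws.getD (step z).2 []) with hg0
        have hg0M : g0 ∈ M := hws _ hw
        have hmap : mat g0 *ᵥ C.vec n (D.iso (step z).1) = s • C.vec n (D.iso z) := by
          rw [hg0, wordC_vec hG (hwB _ hw), hs]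
        have hh := ih _ hlt (by omega)
        rw [← tvAt_smul hG.hF (v := C.vec n (D.iso z)) hs0] at hg
        have hnorm : Cfsg.hermForm n F q (s • C.vec n (D.iso z)) (s • C.vec n (D.iso z)) = 0 := by
          rw [H_smul_left, H_smul_right, iso_norm hG hz, mul_zero, mul_zero]
        obtain ⟨c, hc, rfl⟩ := tvu_eq_of_mem hG.hF hnorm hg
        rw [← tvu_conj hG.hF g0 hmap (iso_norm hG (by omega)) hnorm hc]
        refine mul_mem (mul_mem hg0M (hh _ ⟨c, hc, ?_⟩)) (inv_mem hg0M)
        exact mat_ext fun x => by rw [tvu_mulVec, Forms.HermStd.transvection_mulVec]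
  rw [tvGroup, Subgroup.closure_le]
  rintro g ⟨v, c, hv, hc, hg⟩
  by_cases hv0 : v = 0
  · have : g = 1 := SU_ext fun x => by
      rw [hg, Forms.HermStd.transvection_mulVec, hv0, mat_one, one_mulVec]; simp
    rw [this]; exact one_mem _
  have hh0 : C.hN n (C.enc v) (C.enc v) = 0 := by
    rw [← C.toN_ofN _ (C.hN_spec (n := n) _ _).1, ← herm_eq hG, C.vec_enc, hv, ← C.ofN_zero, C.toN_ofN 0 C.N_pos]
  have he : C.enc v ≠ 0 := fun e => hv0 (by
    rw [← C.vec_enc v, e]
    funext i
    show C.ofN (C.dig 0 i) = 0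
    have : ∀ k, C.dig 0 k = 0 := fun k => by
      induction k with
      | zero => simp [Cod.dig]
      | succ k ihk => rw [Cod.dig, Nat.zero_div, ihk]
    rw [this, C.ofN_zero])
  obtain ⟨hz, s, hs, hsv⟩ := (pts_dec hG _ (C.enc_lt v)).2 hh0 he
  rw [C.vec_enc] at hsv
  refine hconj _ hz g ?_
  rw [← tvAt_smul hG.hF hs, ← hsv]
  exact ⟨c, hc, hg⟩

end Cfsg.Agent.MonomialMult
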