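import Cfsg.Agent.Lib.MonomialMult.Monomial
import Cfsg.Agent.Lib.MonomialMult.UnitaryGens
import Cfsg.Agent.Lib.PcMult.Trivial
import Cfsg.Agent.Lib.PcMult.Split

/-!
Checks on packed tables: lifts to a labelled graph with labels in pairs modulo `p`, and the certificates of
Sylow subgroups in a permutation representation.
-/

set_option autoImplicit false
set_option linter.unusedSectionVars false

namespace Cfsg.Agent.MonomialMult

open Cfsg.Agent.Lib.PcMult

/-- A table with rows: `blk` rows in every list. -/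
def rd2 (T : List (List ℕ)) (w x y : ℕ) : ℕ := (((T.getD (x / 24) []).getD (x % 24) 0) >>> (w * y)) % 2 ^ w

/-- The label of a code. -/
def lab (p k : ℕ) : ZMod p × ZMod p := ((k : ZMod p), ((k / p : ℕ) : ZMod p))

/-- The shifted label on codes. -/
def shiftN (p l a b : ℕ) : ℕ := (l + a + (p - 1) * b) % p + p * ((l / p + a / p + (p - 1) * (b / p)) % p)

theorem lab_shift {p : ℕ} (hp : 0 < p) (l a b : ℕ) : lab p (shiftN p l a b) = lab p l + lab p a - lab p b := by
  have e : ((p - 1 : ℕ) : ZMod p) = -1 := by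
    rw [Nat.cast_sub hp, ZMod.natCast_self, Nat.cast_one, zero_sub]
  refine Prod.ext ?_ ?_
  · show (((shiftN p l a b) : ℕ) : ZMod p) = (l : ZMod p) + a - b
    rw [shiftN, Nat.cast_add, ZMod.natCast_mod, Nat.cast_mul, ZMod.natCast_self, zero_mul, add_zero,
      Nat.cast_add, Nat.cast_add, Nat.cast_mul, e]
    ring
  · show (((shiftN p l a b) / p : ℕ) : ZMod p) = ((l / p : ℕ) : ZMod p) + (a / p : ℕ) - (b / p : ℕ)
    rw [shiftN, Nat.add_mul_div_left _ _ hp, Nat.div_eq_of_lt (Nat.mod_lt _ hp), Nat.zero_add,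
      ZMod.natCast_mod, Nat.cast_add, Nat.cast_add, Nat.cast_mul, e]
    ring

variable {m : ℕ}

/-- The adjacency of a table. -/
def adjT (p : ℕ) (T : List (List ℕ)) (w : ℕ) (x y : Fin m) : Option (ZMod p × ZMod p) :=
  if rd2 T w x y = 0 then none else some (lab p (rd2 T w x y - 1))

/-- A row of a table. -/
def rowT (T : List (List ℕ)) (x : ℕ) : ℕ := (T.getD (x / 24) []).getD (x % 24) 0

/-- A lift preserves the edges starting at one point. -/
def edgeB (p m : ℕ) (T : List (List ℕ)) (w : ℕ) (P f : ℕ → ℕ) (x : ℕ) : Bool :=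
  frc (P x) fun px => frc (f x) fun fx => frc (rowT T x) fun R => frc (rowT T px) fun S =>
    below (fun y => frc ((R >>> (w * y)) % 2 ^ w) fun e =>
      e == 0 || (S >>> (w * P y)) % 2 ^ w == shiftN p (e - 1) (f y) fx + 1) m

/-- A lift preserves the edges starting in a range. -/
def liftB (p m : ℕ) (T : List (List ℕ)) (w : ℕ) (P f : ℕ → ℕ) (lo k : ℕ) : Bool :=
  below (fun d => edgeB p m T w P f (lo + d)) k

/-- Ranges of equal length cover all points. -/
theorem edges_of_chunks {p m : ℕ} {T : List (List ℕ)} {w : ℕ} {P f : ℕ → ℕ} {s c : ℕ} (hm : m ≤ s * c) (hc : 0 < c)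
    (h : ∀ i < s, liftB p m T w P f (i * c) c = true) : ∀ x < m, edgeB p m T w P f x = true := fun x hx => by
  have := below_spec (h (x / c) (Nat.div_lt_of_lt_mul (by rw [Nat.mul_comm]; omega))) (x % c) (Nat.mod_lt _ hc)
  rwa [Nat.mul_comm, Nat.div_add_mod] at this

theorem isLift_of {p : ℕ} (hp : 0 < p) {T : List (List ℕ)} {w : ℕ} {P f : ℕ → ℕ}
    (h : ∀ x < m, edgeB p m T w P f x = true) {σ : Equiv.Perm (Fin m)} (hσ : ∀ y, ((σ y : Fin m) : ℕ) = P y) :
    IsLift (adjT (m := m) p T w) σ fun x => lab p (f x) := by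
  intro x y l hl
  have hx := h x x.2
  simp only [edgeB, frc_eq] at hx
  have hy := below_spec hx y y.2
  have hb : (rd2 T w x y == 0 || rd2 T w (P x) (P y) == shiftN p (rd2 T w x y - 1) (f y) (f x) + 1) = true := hy
  simp only [adjT] at hl ⊢
  split at hl
  · exact absurd hl (by simp)
  · rename_i he
    simp only [Bool.or_eq_true, beq_iff_eq, he, false_or] at hb
    obtain rfl := Option.some.inj hl
    rw [hσ, hσ, if_neg (by omega), hb, Nat.add_sub_cancel, lab_shift hp]

/-- The tree showing that the graph is connected. -/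
def connB (m : ℕ) (T : List (List ℕ)) (w : ℕ) (par : ℕ → ℕ) : Bool :=
  below (fun x => x == 0 || (decide (par x < x) && !(rd2 T w (par x) x == 0))) m

/-- The two commutators of lifts. -/
def commB (p : ℕ) (P Q f k : ℕ → ℕ) (m a : ℕ) : Bool :=
  below (fun y => P (Q y) == Q (P y)) m && decide (P 0 < m) && decide (Q 0 < m) &&
    shiftN p (f (Q 0)) (k 0) (shiftN p (k (P 0)) (f 0) 0) == a

theorem comm_label {p : ℕ} (hp : 0 < p) {f0 k0 fq kp a : ℕ} (h : shiftN p fq k0 (shiftN p kp f0 0) = a) :
    lab p fq + lab p k0 = lab p a + (lab p kp + lab p f0) := by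
  have h0 : lab p 0 = 0 := by simp [lab]
  rw [← h, lab_shift hp, lab_shift hp, h0, sub_zero]
  abel

/-- The closure of the two standard labels. -/
theorem closure_lab (p : ℕ) [NeZero p] (hp : 1 < p) :
    AddSubgroup.closure ({lab p 1, lab p p} : Set (ZMod p × ZMod p)) = ⊤ := by
  rw [eq_top_iff]
  rintro ⟨a, b⟩ -
  have h1 : lab p 1 = (1, 0) := by simp [lab, Nat.div_eq_of_lt hp]
  have h2 : lab p p = (0, 1) := by simp [lab, Nat.div_self (by omega : 0 < p)]
  have e : ((a, b) : ZMod p × ZMod p) = a.val • lab p 1 + b.val • lab p p := by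
    rw [h1, h2]
    simp [Prod.ext_iff]
  rw [e]
  exact add_mem (AddSubgroup.nsmul_mem _ (AddSubgroup.subset_closure (by simp)) _)
    (AddSubgroup.nsmul_mem _ (AddSubgroup.subset_closure (by simp)) _)

/-! ### Certificates in a permutation representation -/

/-- The image of a point under a word of tables. -/
def evT (tabs : List (ℕ → ℕ)) (l : List ℕ) (x : ℕ) : ℕ := l.foldr (fun k y => tabs.getD k id y) x

/-- Two words of tables agree. -/
def eqT (tabs : List (ℕ → ℕ)) (m : ℕ) (a b : List ℕ) : Bool :=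
  a.all (fun k => decide (k < tabs.length)) && b.all (fun k => decide (k < tabs.length)) &&
    below (fun x => evT tabs a x == evT tabs b x) m

/-- The check of the rules of one letter. -/
def rulesB (C : Cert) (tabs : List (ℕ → ℕ)) (m i : ℕ) : Bool :=
  eqT tabs m (List.replicate C.R.p i) (C.R.pwWord i) &&
    (C.R.pwWord i).all (fun k => decide (i < k ∧ k < C.R.n)) &&
    ((List.range' (i + 1) (C.R.n - (i + 1))).all fun j => eqT tabs m [j, i] (i :: C.R.cjWord i j) &&
      (C.R.cjWord i j).all fun k => decide (i < k ∧ k < C.R.n))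

/-- The check of one conjugation. -/
def fusB (C : Cert) (tabs : List (ℕ → ℕ)) (m : ℕ) (qp : Fus × ℕ) : Bool :=
  qp.1.1.all fun ab => eqT tabs m ((C.R.n + qp.2) :: ab.1) (ab.2 ++ [C.R.n + qp.2])

/-- The check of the set separating one term of the series. -/
def orbB (C : Cert) (tabs : List (ℕ → ℕ)) (m : ℕ) (orbs : List (List ℕ × List (List ℕ))) (i : ℕ) : Bool :=
  let O := (orbs.getD i ([], [])).2
  let b := (orbs.getD i ([], [])).1
  O.contains b && O.all (fun t => t.all fun x => decide (x < m)) &&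
  ((List.range' (i + 1) (C.R.n - (i + 1))).all fun j =>
    O.all fun t => O.contains (t.map (tabs.getD j id))) &&
  !(O.contains (b.map (tabs.getD i id)))

/-- The separating set is closed under one letter. -/
def orbJ (tabs : List (ℕ → ℕ)) (orbs : List (List ℕ × List (List ℕ))) (i j : ℕ) : Bool :=
  let O := (orbs.getD i ([], [])).2
  O.all fun t => O.contains (t.map (tabs.getD j id))

/-- The part of the check of a separating set about the set itself. -/
def orbHd (tabs : List (ℕ → ℕ)) (m : ℕ) (orbs : List (List ℕ × List (List ℕ))) (i : ℕ) : Bool :=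
  let O := (orbs.getD i ([], [])).2
  let b := (orbs.getD i ([], [])).1
  O.contains b && O.all (fun t => t.all fun x => decide (x < m)) && !(O.contains (b.map (tabs.getD i id)))

theorem orb_of_parts {C : Cert} {tabs : List (ℕ → ℕ)} {m : ℕ} {orbs : List (List ℕ × List (List ℕ))} {i : ℕ}
    (hh : orbHd tabs m orbs i = true) (hj : ∀ j, i < j → j < C.R.n → orbJ tabs orbs i j = true) :
    orbB C tabs m orbs i = true := by
  simp only [orbHd, Bool.and_eq_true] at hh
  simp only [orbB, Bool.and_eq_true]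
  refine ⟨⟨hh.1, List.all_eq_true.2 fun j hj' => hj j ?_ ?_⟩, hh.2⟩ <;>
    (have := List.mem_range'_1.1 hj'; omega)

/-- The checks of a certificate. -/
def realT (C : Cert) (tabs : List (ℕ → ℕ)) (m : ℕ) (orbs : List (List ℕ × List (List ℕ))) : Bool :=
  decide (C.R.n ≤ tabs.length) && ((List.range C.R.n).all fun i => rulesB C tabs m i) &&
  (C.fus.zipIdx.all fun qp => fusB C tabs m qp) &&
  ((List.range C.R.n).all fun i => orbB C tabs m orbs i)

/-- The checks of a certificate from their parts. -/
theorem real_of_parts {C : Cert} {tabs : List (ℕ → ℕ)} {m : ℕ} {orbs : List (List ℕ × List (List ℕ))}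
    (hn : C.R.n ≤ tabs.length) (hr : ∀ i < C.R.n, rulesB C tabs m i = true)
    (hf : ∀ q < C.fus.length, fusB C tabs m (C.fus.getD q ([], []), q) = true)
    (ho : ∀ i < C.R.n, orbB C tabs m orbs i = true) : realT C tabs m orbs = true := by
  simp only [realT, Bool.and_eq_true, decide_eq_true_eq]
  refine ⟨⟨⟨hn, List.all_eq_true.2 fun i hi => hr i (List.mem_range.1 hi)⟩, List.all_eq_true.2 fun qp hqp => ?_⟩, List.all_eq_true.2 fun i hi => ho i (List.mem_range.1 hi)⟩
  obtain ⟨p, q⟩ := qp
  have hget : C.fus[q]? = some p := List.mem_zipIdx_iff_getElem?.1 hqp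
  have hq : q < C.fus.length := (List.getElem?_eq_some_iff.1 hget).1
  have := hf q hq
  rwa [List.getD_eq_getElem?_getD, hget] at this

variable {G : Type} [Group G] [Finite G]

theorem map_evT {φ : G →* Equiv.Perm (Fin m)} {tabs : List (ℕ → ℕ)} {g : ℕ → G}
    (hg : ∀ k < tabs.length, ∀ y : Fin m, ((φ (g k) y : Fin m) : ℕ) = tabs.getD k id y) :
    ∀ l : List ℕ, (∀ k ∈ l, k < tabs.length) → ∀ y : Fin m, ((φ (W g l) y : Fin m) : ℕ) = evT tabs l y
  | [], _, y => by rw [W_nil, map_one]; rfl
  | a :: l, h, y => by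
    rw [W_cons, map_mul, Equiv.Perm.mul_apply, hg a (h a List.mem_cons_self),
      map_evT hg l (fun k hk => h k (List.mem_cons_of_mem _ hk)) y]
    rfl

theorem real_of {φ : G →* Equiv.Perm (Fin m)} (hφ : Function.Injective φ) {C : Cert} {tabs : List (ℕ → ℕ)}
    {g : ℕ → G} (hg : ∀ k < tabs.length, ∀ y : Fin m, ((φ (g k) y : Fin m) : ℕ) = tabs.getD k id y)
    {orbs : List (List ℕ × List (List ℕ))} (h : realT C tabs m orbs = true) :
    C.Real g fun k => g (C.R.n + k) := by
  have heq : ∀ a b, eqT tabs m a b = true → W g a = W g b := by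
    intro a b hab
    simp only [eqT, Bool.and_eq_true, List.all_eq_true, decide_eq_true_eq] at hab
    refine hφ (Equiv.ext fun y => Fin.ext ?_)
    rw [map_evT hg a hab.1.1, map_evT hg b hab.1.2]
    exact beq_iff_eq.1 (below_spec hab.2 y y.2)
  simp only [realT, rulesB, fusB, orbB, Bool.and_eq_true, List.all_eq_true, decide_eq_true_eq, List.mem_range,
    List.mem_range'_1, Bool.not_eq_true'] at h
  obtain ⟨⟨⟨hn, hrules⟩, hfus⟩, horb⟩ := h
  refine ⟨?_, ?_, ?_, ?_, ?_⟩
  · intro i hi
    rw [← W_replicate]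
    exact heq _ _ (hrules i hi).1.1
  · intro i j hij hj
    have := heq _ _ ((hrules i (hij.trans hj)).2 j ⟨hij, by omega⟩).1
    rwa [W_cons, W_cons, W_nil, mul_one, W_cons] at this
  · intro qp hqp ab hab
    have := heq _ _ (hfus qp hqp ab hab)
    rwa [W_cons, W_append, W_cons, W_nil, mul_one] at this
  · intro i hi
    refine ⟨fun k hk => ?_, fun j hij hj k hk => ?_⟩
    · exact (hrules i hi).1.2 k hk
    · exact ((hrules i hi).2 j ⟨hij, by omega⟩).2 k hk
  · intro i hi
    obtain ⟨⟨⟨hb, hlt⟩, hcl⟩, hout⟩ := horb i hi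
    let O := (orbs.getD i ([], [])).2
    let b := (orbs.getD i ([], [])).1
    let act : G → List ℕ → List ℕ := fun x t => t.map fun k => if hk : k < m then ((φ x ⟨k, hk⟩ : Fin m) : ℕ) else k
    have hact : ∀ (k : ℕ), k < tabs.length → ∀ t : List ℕ, (∀ x ∈ t, x < m) →
        act (g k) t = t.map (tabs.getD k id) := fun k hk t ht => List.map_congr_left fun x hx => by
      rw [dif_pos (ht x hx), hg k hk]
    refine not_mem_closure act (fun t => ?_) (fun x y t => ?_) O (b := b) (List.mem_of_elem_eq_true hb) ?_ ?_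
    · show t.map _ = t
      conv_rhs => rw [← List.map_id t]
      refine List.map_congr_left fun k _ => ?_
      split <;> simp
    · show t.map _ = (t.map _).map _
      rw [List.map_map]
      refine List.map_congr_left fun k _ => ?_
      by_cases hk : k < m
      · simp only [Function.comp, dif_pos hk, map_mul, Equiv.Perm.mul_apply, Fin.is_lt, dite_true]
      · simp [Function.comp, hk]
    · rintro _ ⟨j, hj, rfl⟩ t ht
      rw [hact j (lt_of_lt_of_le hj.2 hn) t (hlt t ht)]
      exact List.mem_of_elem_eq_true (hcl j ⟨hj.1, by have := hj.2; omega⟩ t ht)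
    · rw [hact i (lt_of_lt_of_le hi hn) b (hlt b (List.mem_of_elem_eq_true hb))]
      intro hc
      rw [List.contains_iff_mem.2 hc] at hout
      exact absurd hout (by simp)

end Cfsg.Agent.MonomialMult
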