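import Mathlib

/-!
Vectors over a coded field as numbers, with the hermitian product and transvections computed on the codes.
-/

set_option autoImplicit false
set_option linter.unusedSectionVars false

namespace Cfsg.Agent.MonomialMult

/-- A field with elements coded by numbers below `N`. -/
structure Cod (F : Type) [Field F] (q : ℕ) where
  N : ℕ
  toN : F → ℕ
  ofN : ℕ → F
  addN : ℕ → ℕ → ℕ
  mulN : ℕ → ℕ → ℕ
  barN : ℕ → ℕ
  toN_lt : ∀ a, toN a < N
  ofN_toN : ∀ a, ofN (toN a) = a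
  toN_ofN : ∀ k < N, toN (ofN k) = k
  ofN_zero : ofN 0 = 0
  add_spec : ∀ a < N, ∀ b < N, addN a b < N ∧ ofN (addN a b) = ofN a + ofN b
  mul_spec : ∀ a < N, ∀ b < N, mulN a b < N ∧ ofN (mulN a b) = ofN a * ofN b
  bar_spec : ∀ a < N, barN a < N ∧ ofN (barN a) = ofN a ^ q

namespace Cod

variable {F : Type} [Field F] {q : ℕ} (C : Cod F q)

theorem N_pos : 0 < C.N := lt_of_le_of_lt (Nat.zero_le _) (C.toN_lt 0)

/-- A digit of a code. -/
def dig : ℕ → ℕ → ℕ
  | v, 0 => v % C.N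
  | v, i + 1 => dig (v / C.N) i

theorem dig_lt : ∀ v i, C.dig v i < C.N
  | _, 0 => Nat.mod_lt _ C.N_pos
  | v, i + 1 => by rw [dig]; exact dig_lt (v / C.N) i

/-- The code of a sequence of digits. -/
def pack : ℕ → (ℕ → ℕ) → ℕ
  | 0, _ => 0
  | k + 1, f => f 0 + C.N * pack k fun i => f (i + 1)

theorem dig_pack : ∀ (k : ℕ) (f : ℕ → ℕ), (∀ i < k, f i < C.N) → ∀ i < k, C.dig (C.pack k f) i = f i
  | 0, _, _, _, h => absurd h (Nat.not_lt_zero _)
  | k + 1, f, hf, 0, _ => by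
    rw [pack, dig, Nat.add_mul_mod_self_left, Nat.mod_eq_of_lt (hf 0 (Nat.succ_pos k))]
  | k + 1, f, hf, i + 1, hi => by
    rw [pack, dig, Nat.add_mul_div_left _ _ C.N_pos, Nat.div_eq_of_lt (hf 0 (Nat.succ_pos k)), Nat.zero_add]
    exact dig_pack k (fun j => f (j + 1)) (fun j hj => hf (j + 1) (by omega)) i (by omega)

theorem pack_lt : ∀ (k : ℕ) (f : ℕ → ℕ), (∀ i < k, f i < C.N) → C.pack k f < C.N ^ k
  | 0, _, _ => by simp [pack]
  | k + 1, f, hf => by
    have h0 := hf 0 (Nat.succ_pos k)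
    have h1 := pack_lt k (fun j => f (j + 1)) fun j hj => hf (j + 1) (by omega)
    rw [pack, pow_succ']
    calc f 0 + C.N * C.pack k (fun i => f (i + 1)) < C.N + C.N * C.pack k (fun i => f (i + 1)) := by omega
      _ = C.N * (C.pack k (fun i => f (i + 1)) + 1) := by ring
      _ ≤ _ := Nat.mul_le_mul_left _ h1

variable {n : ℕ}

/-- The vector of a code. -/
def vec (n v : ℕ) : Fin n → F := fun i => C.ofN (C.dig v i)

/-- The code of a vector. -/
def enc (x : Fin n → F) : ℕ := C.pack n fun i => if h : i < n then C.toN (x ⟨i, h⟩) else 0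

theorem enc_lt (x : Fin n → F) : C.enc x < C.N ^ n := C.pack_lt n _ fun i hi => by
  rw [dif_pos hi]; exact C.toN_lt _

theorem vec_enc (x : Fin n → F) : C.vec n (C.enc x) = x := funext fun i => by
  rw [vec, enc, C.dig_pack n _ (fun j hj => by rw [dif_pos hj]; exact C.toN_lt _) i i.2, dif_pos i.2]
  exact C.ofN_toN _

theorem dig_ext : ∀ (k a b : ℕ), a < C.N ^ k → b < C.N ^ k → (∀ i < k, C.dig a i = C.dig b i) → a = b
  | 0, a, b, ha, hb, _ => by simp only [pow_zero, Nat.lt_one_iff] at ha hb; rw [ha, hb]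
  | k + 1, a, b, ha, hb, hd => by
    have e0 : a % C.N = b % C.N := by
      have := hd 0 (Nat.succ_pos k)
      simpa [dig] using this
    have e1 : a / C.N = b / C.N := dig_ext k _ _ (Nat.div_lt_of_lt_mul (by rwa [pow_succ'] at ha))
      (Nat.div_lt_of_lt_mul (by rwa [pow_succ'] at hb)) fun i hi => by
        have := hd (i + 1) (by omega)
        simpa [dig] using this
    rw [← Nat.mod_add_div a C.N, e0, e1, Nat.mod_add_div]

theorem vec_inj {a b : ℕ} (ha : a < C.N ^ n) (hb : b < C.N ^ n) (h : C.vec n a = C.vec n b) : a = b :=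
  C.dig_ext n a b ha hb fun i hi => by
    have := congrArg C.toN (congrFun h ⟨i, hi⟩)
    rwa [vec, vec, C.toN_ofN _ (C.dig_lt _ _), C.toN_ofN _ (C.dig_lt _ _)] at this

/-- A sum of codes. -/
def sumN : ℕ → (ℕ → ℕ) → ℕ
  | 0, _ => 0
  | k + 1, f => C.addN (f 0) (sumN k fun i => f (i + 1))

theorem sumN_spec : ∀ (k : ℕ) (f : ℕ → ℕ), (∀ i < k, f i < C.N) →
    C.sumN k f < C.N ∧ C.ofN (C.sumN k f) = ∑ i : Fin k, C.ofN (f i)
  | 0, _, _ => ⟨C.N_pos, by rw [sumN, Finset.univ_eq_empty, Finset.sum_empty]; exact C.ofN_zero⟩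
  | k + 1, f, hf => by
    obtain ⟨h1, h2⟩ := sumN_spec k (fun i => f (i + 1)) fun i hi => hf (i + 1) (by omega)
    obtain ⟨h3, h4⟩ := C.add_spec _ (hf 0 (Nat.succ_pos k)) _ h1
    refine ⟨h3, ?_⟩
    rw [sumN, h4, h2, Fin.sum_univ_succ]
    rfl

/-- The hermitian product on codes. -/
def hN (n u v : ℕ) : ℕ := C.sumN n fun i => C.mulN (C.dig u i) (C.barN (C.dig v i))

theorem hN_spec (u v : ℕ) : C.hN n u v < C.N ∧
    C.ofN (C.hN n u v) = ∑ i : Fin n, C.vec n u i * (C.vec n v i) ^ q := by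
  have hb := fun i => C.bar_spec _ (C.dig_lt v i)
  have hm := fun i => C.mul_spec _ (C.dig_lt u i) _ (hb i).1
  obtain ⟨h1, h2⟩ := C.sumN_spec n (fun i => C.mulN (C.dig u i) (C.barN (C.dig v i))) fun i _ => (hm i).1
  refine ⟨h1, h2.trans (Finset.sum_congr rfl fun i _ => ?_)⟩
  rw [(hm i).2, (hb i).2]
  rfl

/-- A multiple of a code. -/
def scaleN (n s v : ℕ) : ℕ := C.pack n fun i => C.mulN s (C.dig v i)

theorem vec_scaleN {s : ℕ} (hs : s < C.N) (v : ℕ) : C.vec n (C.scaleN n s v) = C.ofN s • C.vec n v := funext fun i => by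
  rw [vec, scaleN, C.dig_pack n _ (fun j _ => (C.mul_spec _ hs _ (C.dig_lt v j)).1) i i.2,
    (C.mul_spec _ hs _ (C.dig_lt v i)).2]
  rfl

/-- A transvection on codes. -/
def transN (n v c x : ℕ) : ℕ :=
  let k := C.mulN c (C.hN n x v)
  C.pack n fun i => C.addN (C.dig x i) (C.mulN k (C.dig v i))

theorem vec_transN {c : ℕ} (hc : c < C.N) (v x : ℕ) :
    C.vec n (C.transN n v c x) =
      C.vec n x + (C.ofN c * ∑ i : Fin n, C.vec n x i * (C.vec n v i) ^ q) • C.vec n v := by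
  obtain ⟨h1, h2⟩ := C.hN_spec (n := n) x v
  obtain ⟨h3, h4⟩ := C.mul_spec _ hc _ h1
  have hm := fun i => C.mul_spec _ h3 _ (C.dig_lt v i)
  have ha := fun i => C.add_spec _ (C.dig_lt x i) _ (hm i).1
  funext i
  rw [vec, transN, C.dig_pack n _ (fun j _ => (ha j).1) i i.2, (ha i).2, (hm i).2, h4, h2]
  rfl

theorem transN_lt (n : ℕ) {c : ℕ} (hc : c < C.N) (v x : ℕ) : C.transN n v c x < C.N ^ n :=
  C.pack_lt n _ fun i _ => (C.add_spec _ (C.dig_lt x i) _
    (C.mul_spec _ (C.mul_spec _ hc _ (C.hN_spec (n := n) x v).1).1 _ (C.dig_lt v i)).1).1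

end Cod

end Cfsg.Agent.MonomialMult
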