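import Cfsg.Agent.Lib.MonomialMult.NineField
import Cfsg.Agent.Lib.MonomialMult.Coded
import Cfsg.Agent.InvChar.Coset.FieldFour

/-!
The fields with nine and with four elements on codes.
-/

set_option autoImplicit false

namespace Cfsg.Agent.MonomialMult

open Cfsg.Agent.InvChar.Coset (FF)

/-- The field with nine elements on codes. -/
def cod9 : Cod Nine 3 where
  N := 9
  toN := Nine.toN
  ofN := Nine.ofN
  addN := Nine.addN
  mulN := Nine.mulN
  barN := Nine.barN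
  toN_lt a := (Nine.spec.1 a).1
  ofN_toN a := (Nine.spec.1 a).2
  toN_ofN := Nine.spec.2.1
  ofN_zero := Nine.spec.2.2.1.1
  add_spec a ha b hb := ⟨(Nine.spec.2.2.2.1 a ha b hb).1, (Nine.spec.2.2.2.1 a ha b hb).2.2.1⟩
  mul_spec a ha b hb := ⟨(Nine.spec.2.2.2.1 a ha b hb).2.1, (Nine.spec.2.2.2.1 a ha b hb).2.2.2⟩
  bar_spec a ha := ⟨(Nine.spec.2.2.2.2 a ha).1, by rw [(Nine.spec.2.2.2.2 a ha).2]; ring⟩

/-- The code of an element of the field with four elements. -/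
def fourN : FF → ℕ
  | .zero => 0
  | .one => 1
  | .w => 2
  | .w2 => 3

/-- Multiplication of codes. -/
def mul4 (a b : ℕ) : ℕ := fourN (FF.ofBits a * FF.ofBits b)

theorem four_spec : (∀ a : FF, fourN a < 4 ∧ FF.ofBits (fourN a) = a) ∧
    (∀ k < 4, fourN (FF.ofBits k) = k) ∧ FF.ofBits 0 = 0 ∧ FF.ofBits 1 = 1 ∧
    (∀ a < 4, ∀ b < 4, Nat.xor a b < 4 ∧ FF.ofBits (Nat.xor a b) = FF.ofBits a + FF.ofBits b) ∧
    ∀ a < 4, (∀ b < 4, mul4 a b < 4 ∧ FF.ofBits (mul4 a b) = FF.ofBits a * FF.ofBits b) := by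
  decide +kernel

/-- The field with four elements on codes. -/
def cod4 : Cod FF 2 where
  N := 4
  toN := fourN
  ofN := FF.ofBits
  addN := Nat.xor
  mulN := mul4
  barN a := mul4 a a
  toN_lt a := (four_spec.1 a).1
  ofN_toN a := (four_spec.1 a).2
  toN_ofN := four_spec.2.1
  ofN_zero := four_spec.2.2.1
  add_spec := four_spec.2.2.2.2.1
  mul_spec := four_spec.2.2.2.2.2
  bar_spec a ha := ⟨((four_spec.2.2.2.2.2 a ha) a ha).1, by rw [((four_spec.2.2.2.2.2 a ha) a ha).2, sq]⟩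

end Cfsg.Agent.MonomialMult
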