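import Cfsg.Agent.Lib.MonomialMult.Universal

/-!
A central extension from a labelled graph on the points of a permutation group: the permutations of the
points times the labels that commute with the translations and preserve the labelled graph.
-/

set_option autoImplicit false
set_option linter.unusedSectionVars false

namespace Cfsg.Agent.MonomialMult

open scoped commutatorElement

variable {ι : Type} [Fintype ι] [DecidableEq ι] {A : Type} [AddCommGroup A] [Fintype A] [DecidableEq A]

/-- A permutation with labels preserves the labelled graph. -/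
def IsLift (adj : ι → ι → Option A) (σ : Equiv.Perm ι) (f : ι → A) : Prop :=
  ∀ x y l, adj x y = some l → adj (σ x) (σ y) = some (l + f y - f x)

/-- The monomial permutation. -/
def shear (σ : Equiv.Perm ι) (f : ι → A) : Equiv.Perm (ι × A) where
  toFun p := (σ p.1, f p.1 + p.2)
  invFun p := (σ.symm p.1, p.2 - f (σ.symm p.1))
  left_inv p := by simp
  right_inv p := by simp

@[simp] theorem shear_apply (σ : Equiv.Perm ι) (f : ι → A) (x : ι) (a : A) :
    shear σ f (x, a) = (σ x, f x + a) := rfl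

variable (adj : ι → ι → Option A)

/-- The automorphisms of the labelled graph, as a submonoid. -/
def monoS : Submonoid (Equiv.Perm (ι × A)) where
  carrier := {π | (∀ x a, π (x, a) = ((π (x, 0)).1, (π (x, 0)).2 + a)) ∧
    ∀ x y l, adj x y = some l → adj (π (x, 0)).1 (π (y, 0)).1 = some (l + (π (y, 0)).2 - (π (x, 0)).2)}
  one_mem' := ⟨fun x a => by simp, fun x y l h => by simpa using h⟩
  mul_mem' := by
    rintro π ρ ⟨p1, p2⟩ ⟨r1, r2⟩
    have e : ∀ x a, (π * ρ) (x, a) = ((π ((ρ (x, 0)).1, 0)).1,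
        (π ((ρ (x, 0)).1, 0)).2 + ((ρ (x, 0)).2 + a)) := fun x a => by
      rw [Equiv.Perm.mul_apply, r1 x a, p1]
    refine ⟨fun x a => by rw [e x a, e x 0, add_zero, add_assoc], fun x y l h => ?_⟩
    rw [e x 0, e y 0]
    have := p2 _ _ _ (r2 x y l h)
    rw [this]
    simp only [add_zero]
    congr 1
    abel

/-- The automorphisms of the labelled graph. -/
def mono : Subgroup (Equiv.Perm (ι × A)) :=
  { monoS adj with
    inv_mem' := fun {π} h => by
      have e : π⁻¹ = π ^ (orderOf π - 1) := by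
        rw [inv_eq_iff_mul_eq_one, ← pow_succ', Nat.sub_add_cancel (orderOf_pos π), pow_orderOf_eq_one]
      show π⁻¹ ∈ monoS adj
      rw [e]
      exact pow_mem h _ }

theorem shear_mem {σ : Equiv.Perm ι} {f : ι → A} (h : IsLift adj σ f) : shear σ f ∈ mono adj :=
  ⟨fun x a => by simp, fun x y l e => by simpa using h x y l e⟩

variable {G : Type} [Group G] [Finite G] (φ : G →* Equiv.Perm ι)

/-- The monomial permutations over the group. -/
def over_ : Subgroup (Equiv.Perm (ι × A) × G) where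
  carrier := {p | p.1 ∈ mono adj ∧ ∀ x a, (p.1 (x, a)).1 = φ p.2 x}
  one_mem' := ⟨one_mem _, fun x a => by
    show x = φ 1 x
    rw [map_one, Equiv.Perm.one_apply]⟩
  mul_mem' := fun {p q} hp hq => ⟨mul_mem hp.1 hq.1, fun x a => by
    show ((p.1 * q.1) (x, a)).1 = _
    rw [Equiv.Perm.mul_apply, Prod.snd_mul, map_mul, Equiv.Perm.mul_apply]
    conv_lhs => rw [← Prod.mk.eta (p := q.1 (x, a))]
    rw [hp.2, hq.2]⟩
  inv_mem' := fun {p} hp => ⟨inv_mem hp.1, fun x a => by
    show ((p.1⁻¹) (x, a)).1 = _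
    have := hp.2 (p.1⁻¹ (x, a)).1 (p.1⁻¹ (x, a)).2
    rw [Prod.mk.eta, ← Equiv.Perm.mul_apply, mul_inv_cancel, Equiv.Perm.one_apply] at this
    rw [Prod.snd_inv, map_inv]
    exact ((Equiv.symm_apply_apply (φ p.2) _).symm.trans (congrArg (φ p.2).symm this.symm))⟩

/-- The extension. -/
theorem exists_cover (hperf : commutator G = ⊤) (r : ι) (par : ι → ι) (μ : ι → ℕ)
    (hconn : ∀ x, x ≠ r → μ (par x) < μ x ∧ (adj (par x) x).isSome = true)
    (S : Set G) (hgen : Subgroup.closure S = ⊤) (hlift : ∀ g ∈ S, ∃ f, IsLift adj (φ g) f)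
    (T : Set A) (hT : AddSubgroup.closure T = ⊤)
    (hcomm : ∀ a ∈ T, ∃ g h : G, ∃ f k : ι → A, φ g * φ h = φ h * φ g ∧ g * h = h * g ∧ IsLift adj (φ g) f ∧
      IsLift adj (φ h) k ∧ f (φ h r) + k r = a + (k (φ g r) + f r)) :
    ∃ (E : Type) (_ : Group E) (_ : Finite E) (θ : E →* G),
      Cfsg.IsStemExtension θ ∧ Nonempty (θ.ker ≃* Multiplicative A) := by
  classical
  let P := over_ adj φ
  let θ : P →* G := (MonoidHom.snd _ _).comp P.subtype
  have hs : Function.Surjective θ := by
    rw [← MonoidHom.range_eq_top, eq_top_iff, ← hgen, Subgroup.closure_le]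
    intro g hg
    obtain ⟨f, hf⟩ := hlift g hg
    exact ⟨⟨(shear (φ g) f, g), shear_mem adj hf, fun x a => rfl⟩, rfl⟩
  have hform : ∀ p : θ.ker, ∀ x a, p.1.1.1 (x, a) = (x, (p.1.1.1 (r, 0)).2 + a) := by
    rintro ⟨⟨⟨π, g⟩, h1, h2⟩, hk⟩ x a
    obtain rfl : g = 1 := hk
    have hfst : ∀ y b, (π (y, b)).1 = y := fun y b => by
      have := h2 y b
      rwa [map_one, Equiv.Perm.one_apply] at this
    have hedge : ∀ y z, (adj y z).isSome = true → (π (y, 0)).2 = (π (z, 0)).2 := by
      intro y z hyz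
      obtain ⟨l, hl⟩ := Option.isSome_iff_exists.1 hyz
      have := h1.2 y z l hl
      rw [hfst, hfst, hl, Option.some.injEq, add_sub_assoc, left_eq_add, sub_eq_zero] at this
      exact this.symm
    have key : ∀ n y, μ y < n → (π (y, 0)).2 = (π (r, 0)).2 := by
      intro n
      induction n with
      | zero => intro y hy; omega
      | succ n ih =>
        intro y hy
        by_cases hyr : y = r
        · rw [hyr]
        · obtain ⟨h3, h4⟩ := hconn y hyr
          rw [← hedge _ _ h4]
          exact ih _ (by omega)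
    show π (x, a) = _
    rw [h1.1 x a, hfst, key _ x (Nat.lt_succ_self _)]
  let ev : θ.ker → A := fun p => (p.1.1.1 (r, 0)).2
  have hev : ∀ p q : θ.ker, ev (p * q) = ev p + ev q := fun p q => by
    show ((p.1.1.1 * q.1.1.1) (r, 0)).2 = _
    rw [Equiv.Perm.mul_apply, hform q, hform p]
    simp only [add_zero]
    rfl
  let ψ : θ.ker →* Multiplicative A := MonoidHom.mk' (fun p => Multiplicative.ofAdd (ev p)) fun p q => by
    rw [hev, ofAdd_add]
  have hinj : Function.Injective ψ := fun p q h => by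
    have h' : ev p = ev q := Multiplicative.ofAdd.injective h
    refine Subtype.ext (Subtype.ext (Prod.ext (Equiv.ext fun ⟨x, a⟩ => ?_) ((p.2 : θ p.1 = 1).trans q.2.symm)))
    rw [hform p, hform q]
    exact congrArg (fun t => (x, t + a)) h'
  let tr : A → Equiv.Perm (ι × A) := fun a => shear 1 fun _ => a
  have htr : ∀ a, (tr a, (1 : G)) ∈ P := fun a =>
    ⟨shear_mem (f := fun _ => a) (σ := 1) adj fun x y l h => by simpa using h,
      fun x b => by simp [tr]⟩
  have hsur : Function.Surjective ψ := fun a =>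
    ⟨⟨⟨(tr a.toAdd, 1), htr _⟩, rfl⟩, by
      show Multiplicative.ofAdd ((tr a.toAdd) (r, 0)).2 = a
      simp [tr]⟩
  have hcen : θ.ker ≤ Subgroup.center P := by
    intro p hp
    rw [Subgroup.mem_center_iff]
    intro q
    refine Subtype.ext (Prod.ext (Equiv.ext fun ⟨x, a⟩ => ?_) ?_)
    · show q.1.1 (p.1.1 (x, a)) = p.1.1 (q.1.1 (x, a))
      have hq : ∀ x a, q.1.1 (x, a) = ((q.1.1 (x, 0)).1, (q.1.1 (x, 0)).2 + a) := q.2.1.1
      obtain ⟨t, ht⟩ : ∃ t, ∀ y b, p.1.1 (y, b) = (y, t + b) := ⟨_, hform ⟨p, hp⟩⟩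
      rw [ht x a, hq x (t + a), hq x a, ht]
      exact Prod.ext rfl (add_left_comm _ _ _)
    · show q.1.2 * p.1.2 = p.1.2 * q.1.2
      rw [show p.1.2 = 1 from hp, mul_one, one_mul]
  let e := MulEquiv.ofBijective ψ ⟨hinj, hsur⟩
  refine ⟨P, inferInstance, inferInstance, θ, ⟨hs, hcen, ?_⟩, ⟨e⟩⟩
  let K : AddSubgroup A :=
    { carrier := {a | (e.symm (Multiplicative.ofAdd a) : P) ∈ commutator P}
      zero_mem' := by simp [one_mem]
      add_mem' := fun {a b} ha hb => by
        simp only [Set.mem_setOf_eq, ofAdd_add, map_mul, Subgroup.coe_mul] at *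
        exact mul_mem ha hb
      neg_mem' := fun {a} ha => by
        simp only [Set.mem_setOf_eq, ofAdd_neg, map_inv, Subgroup.coe_inv] at *
        exact inv_mem ha }
  have hK : T ⊆ K := by
    intro a ha
    obtain ⟨g, h, f, k, -, hgh, hf, hk, hfk⟩ := hcomm a ha
    let x : P := ⟨(shear (φ g) f, g), shear_mem adj hf, fun x a => rfl⟩
    let y : P := ⟨(shear (φ h) k, h), shear_mem adj hk, fun x a => rfl⟩
    have hxy : ⁅x, y⁆ ∈ θ.ker := by
      rw [MonoidHom.mem_ker, map_commutatorElement, commutatorElement_eq_one_iff_mul_comm]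
      exact hgh
    have hval : ψ ⟨_, hxy⟩ = Multiplicative.ofAdd a := by
      have h1 : x * y = ⁅x, y⁆ * (y * x) := by rw [commutatorElement_def]; group
      have h2 := congrArg (fun p : P => (p.1.1 (r, 0)).2) h1
      simp only [Subgroup.coe_mul, Prod.fst_mul, Equiv.Perm.mul_apply] at h2
      rw [show (x : Equiv.Perm (ι × A) × G).1 = shear (φ g) f from rfl,
        show (y : Equiv.Perm (ι × A) × G).1 = shear (φ h) k from rfl] at h2
      rw [show ∀ p, ((⁅x, y⁆ : P) : Equiv.Perm (ι × A) × G).1 p = (p.1, ev ⟨_, hxy⟩ + p.2) from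
        fun p => hform ⟨_, hxy⟩ p.1 p.2] at h2
      simp only [shear_apply, add_zero] at h2
      rw [hfk] at h2
      show Multiplicative.ofAdd (ev ⟨_, hxy⟩) = _
      rw [← add_right_cancel h2]
    show ((e.symm (Multiplicative.ofAdd a) : θ.ker) : P) ∈ commutator P
    rw [← hval, show ψ ⟨_, hxy⟩ = e ⟨_, hxy⟩ from rfl, MulEquiv.symm_apply_apply]
    exact mem_commutator x y
  intro z hz
  have : (e ⟨z, hz⟩).toAdd ∈ K := (AddSubgroup.closure_le K).2 hK (hT ▸ AddSubgroup.mem_top _)
  simpa [K] using this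

end Cfsg.Agent.MonomialMult
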