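import Cfsg.Agent.Lib.MonomialMult.Checks
import Cfsg.Agent.Lib.MonomialMult.BoundedMany
import Cfsg.Agent.SimpleFacts.SUMult.Main
import Cfsg.Agent.Lib.Transfer.SplitLifts

/-!
The multiplier of a projective special unitary group from a labelled graph on the points of norm one and
certificates of Sylow subgroups.
-/

set_option autoImplicit false
set_option linter.unusedSectionVars false

namespace Cfsg.Agent.MonomialMult

open Cfsg.Agent.Classical.Unitary Cfsg.Agent.Lib.PcMult Matrix

/-- The data of the cover. -/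
structure CoverData where
  p : ℕ
  w : ℕ
  T : List (List ℕ)
  par : ℕ → ℕ
  ws : List (List (ℕ × ℕ))
  step : ℕ → ℕ × ℕ
  c0 : ℕ
  f : List (ℕ → ℕ)
  P : List (ℕ → ℕ)
  cw : List (List ℕ)
  cP : List (ℕ → ℕ)
  cf : List (ℕ → ℕ)

variable {F : Type} [Field F] [Fintype F] [DecidableEq F] {q n : ℕ} (C : Cod F q) (D : Pts)

/-- The table of one word is right. -/
def tab1B (n : ℕ) (w : List (ℕ × ℕ)) (P : ℕ → ℕ) : Bool :=
  w.all (tvB C n) && below (fun y => D.idx (appW C n w (D.pt y)) == P y) D.m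

/-- The tables of some words are right. -/
def tabB (n : ℕ) (ws : List (List (ℕ × ℕ))) (Ps : List (ℕ → ℕ)) : Bool :=
  decide (ws.length = Ps.length) && ((List.range ws.length).all fun k => tab1B C D n (ws.getD k []) (Ps.getD k id))

/-- The tables of composite elements are right. -/
def cwB (m : ℕ) (K : CoverData) : Bool :=
  (List.range 4).all fun k => (K.cw.getD k []).all (fun j => decide (j < K.P.length)) &&
    below (fun y => evT K.P (K.cw.getD k []) y == K.cP.getD k id y) m

/-- The checks of the cover, except the edges. -/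
def coverB (n : ℕ) (K : CoverData) : Bool :=
  decide (1 < K.p) && decide (0 < D.m) && treeB (C := C) n D K.ws K.step K.c0 &&
  decide (K.ws.getD 0 [] = [(D.iso 0, K.c0)]) && decide (0 < K.ws.length) &&
  tabB C D n K.ws K.P && connB D.m K.T K.w K.par &&
  cwB D.m K &&
  commB K.p (K.cP.getD 0 id) (K.cP.getD 1 id) (K.cf.getD 0 id) (K.cf.getD 1 id) D.m 1 &&
  commB K.p (K.cP.getD 2 id) (K.cP.getD 3 id) (K.cf.getD 2 id) (K.cf.getD 3 id) D.m K.p &&
  !(K.P.getD 0 id (K.par 0) == K.par 0)

variable {C D} in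
/-- The tables are right if each is. -/
theorem tab_of_each {n : ℕ} {ws : List (List (ℕ × ℕ))} {Ps : List (ℕ → ℕ)} (hl : ws.length = Ps.length)
    (h : ∀ k < ws.length, tab1B C D n (ws.getD k []) (Ps.getD k id) = true) : tabB C D n ws Ps = true := by
  simp only [tabB, Bool.and_eq_true, decide_eq_true_eq, List.all_eq_true, List.mem_range]
  exact ⟨hl, h⟩

variable {C D} (hG : Good C D n) (hn : 3 ≤ n) (hn3 : ¬ (n = 3 ∧ q = 2))
include hG

theorem tab_apply {ws : List (List (ℕ × ℕ))} {Ps : List (ℕ → ℕ)} (h : tabB C D n ws Ps = true) (hn2 : 2 ≤ n)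
    {k : ℕ} (hk : k < ws.length) (y : Fin D.m) :
    ((psuPerm hG hn2 (wordP hG (ws.getD k [])) y : Fin D.m) : ℕ) = Ps.getD k id y := by
  simp only [tabB, tab1B, Bool.and_eq_true, decide_eq_true_eq, List.all_eq_true, List.mem_range] at h
  obtain ⟨h1, h2⟩ := h.2 k hk
  rw [wordP_apply hG hn2 h1]
  exact beq_iff_eq.1 (below_spec h2 y y.2)

include hn hn3

theorem perfect : commutator (Cfsg.PSU n F q) = ⊤ := by
  have h := commutator_SU_eq_top hG.hF hn hn3
  have hs := QuotientGroup.mk'_surjective (Subgroup.center (Cfsg.SU n F q))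
  rw [_root_.commutator_def, ← Subgroup.map_top_of_surjective _ hs, ← Subgroup.map_commutator,
    ← _root_.commutator_def, h, Subgroup.map_top_of_surjective _ hs]

theorem psuPerm_injective {K : CoverData} (hK : coverB C D n K = true) (hpar : K.par 0 < D.m) :
    Function.Injective (psuPerm hG (show 2 ≤ n by omega)) := by
  haveI := isSimpleGroup_PSU hG.hF hn hn3
  simp only [coverB, Bool.and_eq_true, decide_eq_true_eq, Bool.not_eq_true', beq_eq_false_iff_ne] at hK
  obtain ⟨⟨⟨⟨⟨⟨⟨⟨⟨⟨-, -⟩, -⟩, -⟩, hlen⟩, htab⟩, -⟩, -⟩, -⟩, -⟩, hmove⟩ := hK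
  rcases IsSimpleGroup.eq_bot_or_eq_top_of_normal (psuPerm hG (show 2 ≤ n by omega)).ker inferInstance with h | h
  · exact (MonoidHom.ker_eq_bot_iff _).1 h
  · exfalso
    refine hmove ?_
    rw [← tab_apply hG htab (by omega) hlen ⟨K.par 0, hpar⟩,
      MonoidHom.mem_ker.1 (h ▸ Subgroup.mem_top (wordP hG (K.ws.getD 0 [])))]
    rfl

/-- The monomial cover. -/
theorem exists_pair_cover {K : CoverData} [NeZero K.p] (hK : coverB C D n K = true)
    (hlift : ∀ k < K.ws.length, ∀ x < D.m, edgeB K.p D.m K.T K.w (K.P.getD k id) (K.f.getD k id) x = true)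
    (hclift : ∀ k < 4, ∀ x < D.m, edgeB K.p D.m K.T K.w (K.cP.getD k id) (K.cf.getD k id) x = true)
    (hpar : K.par 0 < D.m) :
    ∃ (E : Type) (_ : Group E) (_ : Finite E) (θ : E →* Cfsg.PSU n F q),
      Cfsg.IsStemExtension θ ∧ Nonempty (θ.ker ≃* Multiplicative (ZMod K.p × ZMod K.p)) := by
  have hn2 : 2 ≤ n := by omega
  have hinj := psuPerm_injective hG hn hn3 hK hpar
  have hK' := hK
  simp only [coverB, Bool.and_eq_true, decide_eq_true_eq, Bool.not_eq_true', beq_eq_false_iff_ne] at hK'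
  obtain ⟨⟨⟨⟨⟨⟨⟨⟨⟨⟨hp, hm⟩, htree⟩, hw0⟩, hlen⟩, htab⟩, hconn⟩, hcw⟩, hc1⟩, hc2⟩, -⟩ := hK'
  let r : Fin D.m := ⟨0, hm⟩
  let par : Fin D.m → Fin D.m := fun x => if h : K.par x < D.m then ⟨K.par x, h⟩ else r
  let S : Set (Cfsg.PSU n F q) := (fun k => wordP hG (K.ws.getD k [])) '' Set.Iio K.ws.length
  have hgen : Subgroup.closure S = ⊤ := by
    refine eq_top_of_tree hG hn3 (by omega) htree _ (fun w hw => ?_) ?_
    · obtain ⟨k, hk, rfl⟩ := List.getElem_of_mem hw
      exact Subgroup.subset_closure ⟨k, hk, by simp only [List.getD_eq_getElem _ _ hk]⟩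
    · exact Subgroup.subset_closure ⟨0, hlen, by simp only [hw0]⟩
  refine exists_cover (adjT K.p K.T K.w) (psuPerm hG hn2) (perfect hG hn hn3) r par (fun x => x.1) ?_ S hgen
    ?_ {lab K.p 1, lab K.p K.p} (closure_lab K.p hp) ?_
  · intro x hx
    have := below_spec hconn x x.2
    have hx0 : (x : ℕ) ≠ 0 := fun e => hx (Fin.ext e)
    simp only [Bool.or_eq_true, Bool.and_eq_true, beq_iff_eq, decide_eq_true_eq, Bool.not_eq_true',
      beq_eq_false_iff_ne, hx0, false_or] at this
    have e : par x = ⟨K.par x, by omega⟩ := dif_pos _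
    rw [e]
    exact ⟨this.1, by simp [adjT, this.2]⟩
  · rintro _ ⟨k, hk, rfl⟩
    exact ⟨_, isLift_of (by omega) (hlift k hk) (tab_apply hG htab hn2 hk)⟩
  · have key : ∀ i j a, i < 4 → j < 4 →
        commB K.p (K.cP.getD i id) (K.cP.getD j id) (K.cf.getD i id) (K.cf.getD j id) D.m a = true →
        ∃ g h : Cfsg.PSU n F q, ∃ f k : Fin D.m → ZMod K.p × ZMod K.p,
          psuPerm hG hn2 g * psuPerm hG hn2 h = psuPerm hG hn2 h * psuPerm hG hn2 g ∧ g * h = h * g ∧
          IsLift (adjT K.p K.T K.w) (psuPerm hG hn2 g) f ∧ IsLift (adjT K.p K.T K.w) (psuPerm hG hn2 h) k ∧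
          f (psuPerm hG hn2 h r) + k r = lab K.p a + (k (psuPerm hG hn2 g r) + f r) := by
      intro i j a hi hj hB
      simp only [commB, Bool.and_eq_true, decide_eq_true_eq, beq_iff_eq] at hB
      obtain ⟨⟨⟨hcomm, -⟩, -⟩, hval⟩ := hB
      let el : ℕ → Cfsg.PSU n F q := fun l => W (fun k => wordP hG (K.ws.getD k [])) (K.cw.getD l [])
      have hP : ∀ l < 4, ∀ y : Fin D.m, ((psuPerm hG hn2 (el l) y : Fin D.m) : ℕ) = K.cP.getD l id y := by
        intro l hl y
        have hl' : K.ws.length = K.P.length := by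
          have := htab
          simp only [tabB, Bool.and_eq_true, decide_eq_true_eq] at this
          exact this.1
        simp only [cwB, List.all_eq_true, List.mem_range, Bool.and_eq_true, decide_eq_true_eq] at hcw
        obtain ⟨hlt, hev⟩ := hcw l hl
        rw [map_evT (fun k hk z => tab_apply hG htab hn2 (hl' ▸ hk) z) _ hlt y]
        exact beq_iff_eq.1 (below_spec hev y y.2)
      have hperm : psuPerm hG hn2 (el i) * psuPerm hG hn2 (el j) =
          psuPerm hG hn2 (el j) * psuPerm hG hn2 (el i) := by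
        refine Equiv.ext fun y => Fin.ext ?_
        rw [Equiv.Perm.mul_apply, Equiv.Perm.mul_apply, hP i hi, hP j hj, hP j hj, hP i hi]
        exact beq_iff_eq.1 (below_spec hcomm y y.2)
      refine ⟨_, _, fun x => lab K.p (K.cf.getD i id x), fun x => lab K.p (K.cf.getD j id x), hperm,
        hinj (by rw [map_mul, map_mul]; exact hperm), isLift_of (by omega) (hclift i hi) (hP i hi),
        isLift_of (by omega) (hclift j hj) (hP j hj), ?_⟩
      simp only [hP i hi, hP j hj]
      exact comm_label (by omega) hval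
    intro a ha
    rcases ha with rfl | rfl
    · exact key 0 1 1 (by norm_num) (by norm_num) hc1
    · exact key 2 3 K.p (by norm_num) (by norm_num) hc2

omit hn3 in
/-- The special group over the projective one. -/
theorem exists_center_cover (hn3 : ¬ (n = 3 ∧ q = 2)) :
    ∃ (E : Type) (_ : Group E) (_ : Finite E) (θ : E →* Cfsg.PSU n F q),
      Cfsg.IsStemExtension θ ∧ Nonempty (θ.ker ≃* Multiplicative (ZMod (Nat.gcd n (q + 1)))) := by
  haveI : IsCyclic (Subgroup.center (Cfsg.SU n F q)) := SimpleFacts.SUMult.Main.center_cyclic hG.hF n (by omega)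
  refine ⟨Cfsg.SU n F q, inferInstance, inferInstance, QuotientGroup.mk' (Subgroup.center (Cfsg.SU n F q)),
    ⟨QuotientGroup.mk'_surjective _, by rw [QuotientGroup.ker_mk'],
      by rw [commutator_SU_eq_top hG.hF hn hn3]; exact le_top⟩, ⟨?_⟩⟩
  refine (MulEquiv.subgroupCongr (QuotientGroup.ker_mk' _)).trans ?_
  exact ((natCard_center hG.hF (show 2 ≤ n by omega)) ▸
    zmodCyclicMulEquiv (G := Subgroup.center (Cfsg.SU n F q)) inferInstance).symm

/-- A bound on Sylow derived groups from a certificate. -/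
theorem sylow_bound {K : CoverData} (hK : coverB C D n K = true) (hpar : K.par 0 < D.m)
    {Cr : Cert} {ws : List (List (ℕ × ℕ))} {Ps : List (ℕ → ℕ)} {orbs : List (List ℕ × List (List ℕ))}
    (htab : tabB C D n ws Ps = true) (hreal : realT Cr Ps D.m orbs = true)
    {m' d : ℕ} (hm : 1 ≤ m') (hd : 0 < d) (hp : Cr.R.p.Prime) {res mult tor : List (List ℕ)}
    {α : Type} {O : Ops α}
    (hO : ∀ (K : Type) [CommGroup K], (∀ z : K, z ^ m' = 1) → ∀ τ : ℕ → K, ∃ ev, O.Valid m' τ ev)
    (hC : checkMany Cr O m' res mult tor d = true)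
    (hN : (Nat.card (Cfsg.PSU n F q)).factorization Cr.R.p = Cr.R.n)
    {p : ℕ} [Fact p.Prime] (hpp : Cr.R.p = p) {k : ℕ} (hk : p ^ k = m') (hdk : d ^ res.length < p ^ k)
    {Γ : Type} [Group Γ] [Finite Γ] {σ : Γ →* Cfsg.PSU n F q} (hσ : Cfsg.IsStemExtension σ) :
    ¬ p ^ k ∣ Nat.card σ.ker := by
  have hn2 : 2 ≤ n := by omega
  have hlen : Ps.length = ws.length := by
    simp only [tabB, Bool.and_eq_true, decide_eq_true_eq] at htab
    exact htab.1.symm
  have hR := real_of (psuPerm_injective hG hn hn3 hK hpar) (g := fun i => wordP hG (ws.getD i []))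
    (fun i hi y => tab_apply hG htab hn2 (hlen ▸ hi) y) hreal
  exact not_pow_dvd_ker hdk (fun Γ' _ _ σ' hc' hs' he' P => boundedMany (O := O) hm hd hp hc' hs'
    (fun z hz => hk ▸ he' z hz) hO hC hR hN hpp P) σ hσ.2.1 hσ.1 hσ.2.2

omit hG hn hn3 in
/-- A prime whose square does not divide the order does not divide a stem kernel. -/
theorem not_dvd_of_sq {G : Type} [Group G] [Finite G] {p : ℕ} (hp : p.Prime) (h : ¬ p ^ 2 ∣ Nat.card G)
    {Γ : Type} [Group Γ] [Finite Γ] {σ : Γ →* G} (hσ : Cfsg.IsStemExtension σ) : ¬ p ∣ Nat.card σ.ker := by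
  haveI := Fact.mk hp
  exact fun hd => Suzuki.Multiplier.no_prime_in_kernel σ hσ.2.1 hσ.2.2 default
    (Transfer.SplitLifts.cyclic_criterion hσ.2.1 hσ.1 h default) hd

end Cfsg.Agent.MonomialMult
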