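import Cfsg.Agent.Lib.MonomialMult.Coded
import Cfsg.Agent.Lib.Classical.UnitarySimple

/-!
The projective special unitary group acting on the points of norm one, computed on codes of vectors.
-/

set_option autoImplicit false
set_option linter.unusedSectionVars false

namespace Cfsg.Agent.MonomialMult

open Cfsg.Agent.Classical.Unitary Matrix

/-- A packed table: fields of width `w`, `blk` in every number. -/
def rd (T : List ℕ) (w blk i : ℕ) : ℕ := (T.getD (i / blk) 0 >>> (w * (i % blk))) % 2 ^ w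

/-- All numbers below a bound. -/
def below (p : ℕ → Bool) (k : ℕ) : Bool := k.rec true fun j ih => (p j).rec false ih

theorem below_succ (p : ℕ → Bool) (k : ℕ) : below p (k + 1) = (p k && below p k) := by
  show (Bool.rec false (below p k) (p k) : Bool) = _
  cases p k <;> rfl

theorem below_spec {p : ℕ → Bool} : ∀ {k : ℕ}, below p k = true → ∀ i < k, p i = true
  | 0, _, i, h => absurd h (Nat.not_lt_zero i)
  | k + 1, h, i, hi => by
    simp only [below_succ, Bool.and_eq_true] at h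
    rcases Nat.lt_succ_iff_lt_or_eq.1 hi with hi | rfl
    · exact below_spec h.2 i hi
    · exact h.1

theorem below_of_forall {p : ℕ → Bool} : ∀ {k : ℕ}, (∀ i < k, p i = true) → below p k = true
  | 0, _ => rfl
  | k + 1, h => by
    rw [below_succ, Bool.and_eq_true]
    exact ⟨h k (Nat.lt_succ_self k), below_of_forall fun i hi => h i (Nat.lt_succ_of_lt hi)⟩

/-- A check by ranges. -/
theorem below_of_chunks {p : ℕ → Bool} {k : ℕ} (c s : ℕ) (hk : k = s * c)
    (h : ∀ i < s, below (fun d => p (i * c + d)) c = true) : below p k = true :=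
  below_of_forall fun x hx => by
    have hc : 0 < c := by
      by_contra h0
      rw [Nat.eq_zero_of_not_pos h0, Nat.mul_zero] at hk
      omega
    have := below_spec (h (x / c) (Nat.div_lt_of_lt_mul (by rw [Nat.mul_comm, ← hk]; exact hx))) (x % c)
      (Nat.mod_lt _ hc)
    rwa [Nat.mul_comm, Nat.div_add_mod] at this

/-- The two kinds of points with their tables. -/
structure Pts where
  m : ℕ
  m' : ℕ
  pt : ℕ → ℕ
  idx : ℕ → ℕ
  iso : ℕ → ℕ
  iidx : ℕ → ℕ

variable {F : Type} [Field F] [Fintype F] {q n : ℕ} (C : Cod F q) (D : Pts)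

/-- A code is a non-zero multiple of another. -/
def multB (n x y : ℕ) : Bool :=
  (List.range C.N).any fun s => !(s == 0) && C.scaleN n s y == x

theorem multB_spec {x y : ℕ} (h : multB C n x y = true) : ∃ s : F, s ≠ 0 ∧ C.vec n x = s • C.vec n y := by
  simp only [multB, List.any_eq_true, List.mem_range, Bool.and_eq_true, Bool.not_eq_true', beq_eq_false_iff_ne,
    beq_iff_eq] at h
  obtain ⟨s, hs, hs0, rfl⟩ := h
  refine ⟨C.ofN s, fun e => hs0 ?_, C.vec_scaleN hs y⟩
  rw [← C.toN_ofN s hs, e, ← C.ofN_zero, C.toN_ofN 0 C.N_pos]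

/-- The tables are right. -/
def ptsB (n : ℕ) : Bool :=
  below (fun v =>
    if C.hN n v v == 0 then v == 0 || (decide (D.iidx v < D.m') && multB C n v (D.iso (D.iidx v)))
    else decide (D.idx v < D.m) && multB C n v (D.pt (D.idx v))) (C.N ^ n) &&
  below (fun y => decide (D.pt y < C.N ^ n) && C.hN n (D.pt y) (D.pt y) == 1 &&
    below (fun s => s == 0 || D.idx (C.scaleN n s (D.pt y)) == y) C.N) D.m &&
  below (fun z => decide (D.iso z < C.N ^ n) && !(D.iso z == 0) && C.hN n (D.iso z) (D.iso z) == 0) D.m'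

/-- What the tables say. -/
structure Good (n : ℕ) : Prop where
  hF : Fintype.card F = q ^ 2
  one : C.ofN 1 = 1
  tabs : ptsB C D n = true

variable {C D} (hG : Good C D n)
include hG

theorem pts_dec (v : ℕ) (hv : v < C.N ^ n) :
    (C.hN n v v ≠ 0 → D.idx v < D.m ∧ ∃ s : F, s ≠ 0 ∧ C.vec n v = s • C.vec n (D.pt (D.idx v))) ∧
    (C.hN n v v = 0 → v ≠ 0 → D.iidx v < D.m' ∧ ∃ s : F, s ≠ 0 ∧ C.vec n v = s • C.vec n (D.iso (D.iidx v))) := by
  have h := hG.tabs
  simp only [ptsB, Bool.and_eq_true] at h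
  have h' := below_spec h.1.1 v hv
  constructor
  · intro h0
    rw [if_neg (by simpa using h0), Bool.and_eq_true, decide_eq_true_eq] at h'
    exact ⟨h'.1, multB_spec C h'.2⟩
  · intro h0 h1
    rw [if_pos (by simpa using h0)] at h'
    simp only [Bool.or_eq_true, Bool.and_eq_true, decide_eq_true_eq, beq_iff_eq, h1, false_or] at h'
    exact ⟨h'.1, multB_spec C h'.2⟩

theorem herm_eq (u v : ℕ) : Cfsg.hermForm n F q (C.vec n u) (C.vec n v) = C.ofN (C.hN n u v) :=
  ((C.hN_spec u v).2).symm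

theorem pt_norm (y : Fin D.m) : Cfsg.hermForm n F q (C.vec n (D.pt y)) (C.vec n (D.pt y)) = 1 := by
  have h := hG.tabs
  simp only [ptsB, Bool.and_eq_true] at h
  have h' := below_spec h.1.2 y y.2
  simp only [Bool.and_eq_true, beq_iff_eq] at h'
  rw [herm_eq hG, h'.1.2, hG.one]

theorem iso_norm {z : ℕ} (hz : z < D.m') : Cfsg.hermForm n F q (C.vec n (D.iso z)) (C.vec n (D.iso z)) = 0 := by
  have h := hG.tabs
  simp only [ptsB, Bool.and_eq_true] at h
  have h' := below_spec h.2 z hz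
  simp only [Bool.and_eq_true, beq_iff_eq] at h'
  rw [herm_eq hG, h'.2, C.ofN_zero]

theorem exists_point {x : Fin n → F} (hx : Cfsg.hermForm n F q x x ≠ 0) :
    ∃ y : Fin D.m, D.idx (C.enc x) = y ∧ ∃ s : F, s ≠ 0 ∧ x = s • C.vec n (D.pt y) := by
  have h0 : C.hN n (C.enc x) (C.enc x) ≠ 0 := fun e => hx (by
    rw [← C.vec_enc x, herm_eq hG, e, C.ofN_zero])
  obtain ⟨h1, h2⟩ := (pts_dec hG _ (C.enc_lt x)).1 h0
  rw [C.vec_enc] at h2
  exact ⟨⟨_, h1⟩, rfl, h2⟩

theorem point_unique {y y' : Fin D.m} {s s' : F} (hs : s ≠ 0) (hs' : s' ≠ 0)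
    (h : s • C.vec n (D.pt y) = s' • C.vec n (D.pt y')) : y = y' := by
  have hh := hG.tabs
  simp only [ptsB, Bool.and_eq_true] at hh
  have e : C.vec n (D.pt y') = C.vec n (C.scaleN n (C.toN (s'⁻¹ * s)) (D.pt y)) := by
    rw [C.vec_scaleN (C.toN_lt _), C.ofN_toN, ← smul_smul, h, smul_smul, inv_mul_cancel₀ hs', one_smul]
  have h1 := below_spec hh.1.2 y y.2
  have h2 := below_spec hh.1.2 y' y'.2
  simp only [Bool.and_eq_true, decide_eq_true_eq, beq_iff_eq] at h1 h2
  have key : ∀ a b : ℕ, a < C.N ^ n → b < C.N ^ n → C.vec n a = C.vec n b → a = b :=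
    fun a b ha hb => C.vec_inj ha hb
  have hlt : C.scaleN n (C.toN (s'⁻¹ * s)) (D.pt y) < C.N ^ n :=
    C.pack_lt n _ fun i _ => (C.mul_spec _ (C.toN_lt _) _ (C.dig_lt _ i)).1
  have h3 := below_spec h1.2 _ (C.toN_lt (s'⁻¹ * s))
  have hne : C.toN (s'⁻¹ * s) ≠ 0 := fun e0 => mul_ne_zero (inv_ne_zero hs') hs (by
    rw [← C.ofN_toN (s'⁻¹ * s), e0, C.ofN_zero])
  simp only [Bool.or_eq_true, beq_iff_eq, hne, false_or] at h3
  have h4 := below_spec h2.2 (C.toN (1 : F)) (C.toN_lt 1)
  have hne1 : C.toN (1 : F) ≠ 0 := fun e0 => one_ne_zero (α := F) (by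
    rw [← C.ofN_toN (1 : F), e0, C.ofN_zero])
  simp only [Bool.or_eq_true, beq_iff_eq, hne1, false_or] at h4
  have e' : C.scaleN n (C.toN (1 : F)) (D.pt y') = D.pt y' := key _ _
    (C.pack_lt n _ fun i _ => (C.mul_spec _ (C.toN_lt _) _ (C.dig_lt _ i)).1) h2.1.1 (by
      rw [C.vec_scaleN (C.toN_lt _), C.ofN_toN, one_smul])
  refine Fin.ext ?_
  rw [← h3, key _ _ hlt h2.1.1 e.symm, ← e', h4]

/-- The permutation of the points. -/
noncomputable def move (g : Cfsg.SU n F q) (y : Fin D.m) : Fin D.m :=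
  (exists_point hG (x := mat g *ᵥ C.vec n (D.pt y)) (by
    rw [SU_H g, pt_norm hG]; exact one_ne_zero)).choose

theorem move_spec (g : Cfsg.SU n F q) (y : Fin D.m) :
    ∃ s : F, s ≠ 0 ∧ mat g *ᵥ C.vec n (D.pt y) = s • C.vec n (D.pt (move hG g y)) :=
  (exists_point hG (x := mat g *ᵥ C.vec n (D.pt y)) (by
    rw [SU_H g, pt_norm hG]; exact one_ne_zero)).choose_spec.2

theorem move_eq {g : Cfsg.SU n F q} {y z : Fin D.m} {s : F} (hs : s ≠ 0)
    (h : mat g *ᵥ C.vec n (D.pt y) = s • C.vec n (D.pt z)) : move hG g y = z := by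
  obtain ⟨t, ht, e⟩ := move_spec hG g y
  exact point_unique hG ht hs (e.symm.trans h)

theorem move_one (y : Fin D.m) : move hG (1 : Cfsg.SU n F q) y = y :=
  move_eq hG one_ne_zero (by rw [mat_one, one_mulVec, one_smul])

theorem move_mul (g h : Cfsg.SU n F q) (y : Fin D.m) : move hG (g * h) y = move hG g (move hG h y) := by
  obtain ⟨s, hs, e⟩ := move_spec hG h y
  obtain ⟨t, ht, e'⟩ := move_spec hG g (move hG h y)
  exact move_eq hG (mul_ne_zero hs ht) (by rw [mul_mulVec, e, mulVec_smul, e', smul_smul])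

/-- The action on the points. -/
noncomputable def suPerm : Cfsg.SU n F q →* Equiv.Perm (Fin D.m) where
  toFun g :=
    { toFun := move hG g
      invFun := move hG g⁻¹
      left_inv := fun y => by rw [← move_mul hG, inv_mul_cancel, move_one hG]
      right_inv := fun y => by rw [← move_mul hG, mul_inv_cancel, move_one hG] }
  map_one' := Equiv.ext (move_one hG)
  map_mul' g h := Equiv.ext (move_mul hG g h)

theorem center_le_ker (hn : 2 ≤ n) : Subgroup.center (Cfsg.SU n F q) ≤ (suPerm hG).ker := by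
  intro g hg
  obtain ⟨a, ha⟩ := (mem_center_iff hG.hF hn g).1 hg
  refine MonoidHom.mem_ker.2 (Equiv.ext fun y => move_eq hG (s := a) ?_ ?_)
  · rintro rfl
    have h : mat g *ᵥ C.vec n (D.pt y) = 0 := by rw [ha, zero_smul, zero_mulVec]
    have := SU_H g (C.vec n (D.pt y)) (C.vec n (D.pt y))
    rw [h, H_zero_left, pt_norm hG] at this
    exact zero_ne_one this
  · rw [ha, smul_mulVec, one_mulVec]; rfl

/-- The action of the projective group on the points. -/
noncomputable def psuPerm (hn : 2 ≤ n) : Cfsg.PSU n F q →* Equiv.Perm (Fin D.m) :=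
  QuotientGroup.lift _ (suPerm hG) (center_le_ker hG hn)

end Cfsg.Agent.MonomialMult
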