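import Cfsg.Prelude.Def_KGroupFacts
import Mathlib

/-!
The multiplier read off from one stem extension whose kernel is as large as the kernel of any stem extension,
and the product of two stem extensions with kernels of coprime orders.
-/

set_option autoImplicit false
set_option linter.unusedSectionVars false
set_option linter.style.haveILetI false

namespace Cfsg.Agent.MonomialMult

universe u

open scoped commutatorElement

theorem mem_commutator {Z : Type*} [Group Z] (a b : Z) : ⁅a, b⁆ ∈ commutator Z := by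
  rw [commutator_def]
  exact Subgroup.commutator_mem_commutator (Subgroup.mem_top a) (Subgroup.mem_top b)

/-- An equivalence carries the derived group. -/
theorem comap_commutator {X Y : Type*} [Group X] [Group Y] (a : X ≃* Y) {H : Subgroup Y}
    (h : H ≤ commutator Y) : H.comap a.toMonoidHom ≤ commutator X := fun x hx => by
  have := Subgroup.mem_map_of_mem a.symm.toMonoidHom (h hx)
  rw [commutator_def, Subgroup.map_commutator, Subgroup.map_top_of_surjective _ a.symm.surjective,
    ← commutator_def] at this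
  simpa using this

variable {G : Type} [Group G]

/-- A stem extension of a perfect group is perfect. -/
theorem perfect_of_stem (hperf : commutator G = ⊤) {Z : Type*} [Group Z] (φ : Z →* G)
    (hs : Function.Surjective φ) (hd : φ.ker ≤ commutator Z) : commutator Z = ⊤ := by
  have h1 : (commutator Z).map φ = ⊤ := by
    rw [commutator_def, Subgroup.map_commutator, Subgroup.map_top_of_surjective φ hs, ← commutator_def, hperf]
  rw [eq_top_iff]
  intro z _
  obtain ⟨w, hw, e⟩ := (h1.ge (Subgroup.mem_top (φ z)) : φ z ∈ _)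
  have : w⁻¹ * z ∈ commutator Z := hd (by rw [MonoidHom.mem_ker, map_mul, map_inv, e, inv_mul_cancel])
  simpa using mul_mem hw this

/-- A surjection onto a perfect group maps the derived group onto it. -/
theorem map_commutator_top (hperf : commutator G = ⊤) {Z : Type*} [Group Z] (φ : Z →* G)
    (hs : Function.Surjective φ) : (commutator Z).map φ = ⊤ := by
  rw [commutator_def, Subgroup.map_commutator, Subgroup.map_top_of_surjective φ hs, ← commutator_def, hperf]

/-- The derived group of a central extension of a perfect group is a stem extension. -/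
theorem stem_derived (hperf : commutator G = ⊤) {P : Type*} [Group P] (ρ : P →* G)
    (hs : Function.Surjective ρ) (hc : ρ.ker ≤ Subgroup.center P) :
    Cfsg.IsStemExtension (ρ.comp (commutator P).subtype) := by
  have hD : ∀ g, ∃ d : commutator P, ρ d = g := fun g => by
    obtain ⟨d, hd, e⟩ := ((map_commutator_top hperf ρ hs).ge (Subgroup.mem_top g) : g ∈ _)
    exact ⟨⟨d, hd⟩, e⟩
  have hperfD : commutator (commutator P) = ⊤ := by
    refine eq_top_iff.2 fun x _ => ?_
    have hx : (x : P) ∈ ((commutator (commutator P)).map (commutator P).subtype) := by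
      have key : commutator P ≤ (commutator (commutator P)).map (commutator P).subtype := by
        conv_lhs => rw [commutator_def]
        rw [Subgroup.commutator_le]
        intro a _ b _
        obtain ⟨a', ha⟩ := hD (ρ a)
        obtain ⟨b', hb⟩ := hD (ρ b)
        have za : (a' : P)⁻¹ * a ∈ ρ.ker := by rw [MonoidHom.mem_ker, map_mul, map_inv, ha, inv_mul_cancel]
        have zb : (b' : P)⁻¹ * b ∈ ρ.ker := by rw [MonoidHom.mem_ker, map_mul, map_inv, hb, inv_mul_cancel]
        have ca := Subgroup.mem_center_iff.1 (hc za)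
        have cb := Subgroup.mem_center_iff.1 (hc zb)
        have e : ⁅a, b⁆ = ⁅(a' : P), (b' : P)⁆ := by
          obtain ⟨y, hy, rfl⟩ : ∃ y, (∀ g, g * y = y * g) ∧ a = a' * y := ⟨_, ca, by group⟩
          obtain ⟨z, hz, rfl⟩ : ∃ z, (∀ g, g * z = z * g) ∧ b = b' * z := ⟨_, cb, by group⟩
          simp only [commutatorElement_def, mul_inv_rev]
          calc (a' : P) * y * (b' * z) * (y⁻¹ * (a' : P)⁻¹) * (z⁻¹ * (b' : P)⁻¹)
              = a' * (y * b') * (z * y⁻¹) * ((a' : P)⁻¹ * z⁻¹) * (b' : P)⁻¹ := by group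
            _ = a' * (b' * y) * (y⁻¹ * z) * ((a' : P)⁻¹ * z⁻¹) * (b' : P)⁻¹ := by rw [hy, hz]
            _ = a' * b' * (z * ((a' : P)⁻¹ * z⁻¹)) * (b' : P)⁻¹ := by group
            _ = a' * b' * (z * (z⁻¹ * (a' : P)⁻¹)) * (b' : P)⁻¹ := by
              rw [show (a' : P)⁻¹ * z⁻¹ = z⁻¹ * (a' : P)⁻¹ by
                rw [← mul_inv_rev, ← mul_inv_rev, ← hz]]
            _ = _ := by group
        rw [e]
        exact ⟨⁅a', b'⁆, mem_commutator a' b', map_commutatorElement _ a' b'⟩
      exact key x.2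
    obtain ⟨y, hy, e⟩ := hx
    rwa [Subtype.ext e] at hy
  refine ⟨fun g => hD g, fun z hz => ?_, by rw [hperfD]; exact le_top⟩
  rw [Subgroup.mem_center_iff]
  exact fun g => Subtype.ext (Subgroup.mem_center_iff.1 (hc (show (z : P) ∈ ρ.ker from hz)) g)

variable [Finite G]

/-- A stem extension with the largest possible kernel maps onto every stem extension. -/
theorem exists_ker_map (hperf : commutator G = ⊤) {E : Type} [Group E] [Finite E] (θ : E →* G)
    (hθ : Cfsg.IsStemExtension θ)
    (hbound : ∀ (Δ : Type) [Group Δ] [Finite Δ] (τ : Δ →* G), Cfsg.IsStemExtension τ →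
      Nat.card τ.ker ≤ Nat.card θ.ker)
    {Γ : Type} [Group Γ] [Finite Γ] (σ : Γ →* G) (hσ : Cfsg.IsStemExtension σ) :
    ∃ π : θ.ker →* σ.ker, Function.Surjective π := by
  obtain ⟨hθs, hθc, hθd⟩ := hθ
  obtain ⟨hσs, hσc, hσd⟩ := hσ
  let P : Subgroup (E × Γ) :=
    { carrier := {p | θ p.1 = σ p.2}
      one_mem' := by simp
      mul_mem' := fun {a b} ha hb => by
        simp only [Set.mem_setOf_eq, Prod.fst_mul, Prod.snd_mul, map_mul] at *
        rw [ha, hb]
      inv_mem' := fun {a} ha => by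
        simp only [Set.mem_setOf_eq, Prod.fst_inv, Prod.snd_inv, map_inv] at *
        rw [ha] }
  let p₁ : P →* E := (MonoidHom.fst E Γ).comp P.subtype
  let p₂ : P →* Γ := (MonoidHom.snd E Γ).comp P.subtype
  let ρ : P →* G := θ.comp p₁
  have hp₁ : Function.Surjective p₁ := fun x => by
    obtain ⟨y, hy⟩ := hσs (θ x)
    exact ⟨⟨(x, y), hy.symm⟩, rfl⟩
  have hρc : ρ.ker ≤ Subgroup.center P := fun p hp => Subgroup.mem_center_iff.2 fun g =>
    Subtype.ext (Prod.ext (Subgroup.mem_center_iff.1 (hθc (show p₁ p ∈ θ.ker from hp)) g.1.1)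
      (Subgroup.mem_center_iff.1 (hσc (show p₂ p ∈ σ.ker by
        rw [MonoidHom.mem_ker]; exact p.2.symm.trans hp)) g.1.2))
  have hst := stem_derived hperf ρ (hθs.comp hp₁) hρc
  let D := commutator P
  let τ : D →* G := ρ.comp D.subtype
  have hq₁ : Function.Surjective (p₁.comp D.subtype) := fun x => by
    obtain ⟨d, hd, e⟩ := ((map_commutator_top (perfect_of_stem hperf θ hθs hθd) p₁ hp₁).ge
      (Subgroup.mem_top x) : x ∈ _)
    exact ⟨⟨d, hd⟩, e⟩
  let f : τ.ker →* θ.ker := ((p₁.comp D.subtype).comp τ.ker.subtype).codRestrict θ.ker fun z => z.2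
  have hf : Function.Surjective f := fun x => by
    obtain ⟨d, hd⟩ := hq₁ x.1
    exact ⟨⟨d, show θ (p₁ d) = 1 by rw [show p₁ d = x.1 from hd]; exact x.2⟩, Subtype.ext hd⟩
  have hfb : Function.Bijective f :=
    (Nat.bijective_iff_surjective_and_card _).2 ⟨hf, le_antisymm (hbound D τ hst)
      (Nat.card_le_card_of_surjective f hf)⟩
  let g : τ.ker →* σ.ker := ((p₂.comp D.subtype).comp τ.ker.subtype).codRestrict σ.ker fun z => by
    rw [MonoidHom.mem_ker]
    exact (z.1.1.2).symm.trans z.2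
  suffices hg : Function.Surjective g from
    ⟨g.comp (MulEquiv.ofBijective f hfb).symm.toMonoidHom, hg.comp (MulEquiv.ofBijective f hfb).symm.surjective⟩
  have hp₂ : Function.Surjective p₂ := fun y => by
    obtain ⟨x, hx⟩ := hθs (σ y)
    exact ⟨⟨(x, y), hx⟩, rfl⟩
  intro y
  obtain ⟨d, hd, e⟩ := ((map_commutator_top (perfect_of_stem hperf σ hσs hσd) p₂ hp₂).ge
    (Subgroup.mem_top (y : Γ)) : (y : Γ) ∈ _)
  refine ⟨⟨⟨d, hd⟩, ?_⟩, Subtype.ext e⟩
  show θ (p₁ d) = 1
  rw [show θ (p₁ d) = σ (p₂ d) from d.2, show p₂ d = (y : Γ) from e]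
  exact y.2

/-- The multiplier from a cover in a model of the group. -/
theorem hasSchur_of_model {G₀ : Type u} [Group G₀] (e : G₀ ≃* G) (hperf : commutator G = ⊤)
    {A : Type} [CommGroup A]
    (hcover : ∃ (E : Type) (_ : Group E) (_ : Finite E) (θ : E →* G),
      Cfsg.IsStemExtension θ ∧ Nonempty (θ.ker ≃* A))
    (hbound : ∀ (Δ : Type) [Group Δ] [Finite Δ] (τ : Δ →* G), Cfsg.IsStemExtension τ →
      Nat.card τ.ker ≤ Nat.card A) :
    Cfsg.HasSchurMultiplier G₀ A := by
  obtain ⟨E, _, _, θ, hθ, ⟨eA⟩⟩ := hcover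
  have hmodel : ∀ {Γ : Type} [Group Γ] [Finite Γ] (σ : Γ →* G), Cfsg.IsStemExtension σ →
      ∃ π : A →* σ.ker, Function.Surjective π := fun σ hσ => by
    obtain ⟨π, hπ⟩ := exists_ker_map hperf θ hθ
      (fun Δ _ _ τ hτ => (hbound Δ τ hτ).trans (Nat.card_congr eA.toEquiv).ge) σ hσ
    exact ⟨π.comp eA.symm.toMonoidHom, hπ.comp eA.symm.surjective⟩
  refine ⟨?_, fun Γ _ _ σ hσ => ?_⟩
  · obtain ⟨hs, hc, hd⟩ := hθ
    let d : ULift.{u} E ≃* E := MulEquiv.ulift
    let θ' : ULift.{u} E →* G₀ := e.symm.toMonoidHom.comp (θ.comp d.toMonoidHom)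
    have hk : θ'.ker = θ.ker.comap d.toMonoidHom := by
      ext x
      exact (map_eq_one_iff _ e.symm.injective : e.symm (θ (d x)) = 1 ↔ θ (d x) = 1)
    refine ⟨ULift.{u} E, inferInstance, inferInstance, θ', ⟨e.symm.surjective.comp (hs.comp d.surjective),
      fun x hx => Subgroup.mem_center_iff.2 fun g => d.injective ?_, ?_⟩, ⟨?_⟩⟩
    · rw [hk] at hx
      rw [map_mul, map_mul]
      exact Subgroup.mem_center_iff.1 (hc hx) _
    · rw [hk]; exact comap_commutator d hd
    · refine ((MulEquiv.subgroupCongr hk).trans ?_).trans eA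
      exact
        { toFun := fun x => ⟨d x.1, x.2⟩
          invFun := fun y => ⟨d.symm y.1, by simpa using y.2⟩
          left_inv := fun x => Subtype.ext (d.symm_apply_apply x.1)
          right_inv := fun y => by simp
          map_mul' := fun x y => Subtype.ext (map_mul d x.1 y.1) }
  · haveI : Small.{0} Γ := by
      obtain ⟨k, ⟨f⟩⟩ := Finite.exists_equiv_fin Γ
      exact small_map f
    let s : Shrink.{0} Γ ≃* Γ := Shrink.mulEquiv
    let σ' : Shrink.{0} Γ →* G := e.toMonoidHom.comp (σ.comp s.toMonoidHom)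
    have hk : σ'.ker = σ.ker.comap s.toMonoidHom := by
      ext x
      exact (map_eq_one_iff _ e.injective : e (σ (s x)) = 1 ↔ σ (s x) = 1)
    obtain ⟨hs, hc, hd⟩ := hσ
    obtain ⟨π, hπ⟩ := hmodel σ' ⟨e.surjective.comp (hs.comp s.surjective), fun x hx => by
      rw [hk] at hx
      exact Subgroup.mem_center_iff.2 fun g => s.injective (by
        rw [map_mul, map_mul]; exact Subgroup.mem_center_iff.1 (hc hx) _), by rw [hk]; exact comap_commutator s hd⟩
    let r : σ'.ker →* σ.ker :=
      (s.toMonoidHom.comp σ'.ker.subtype).codRestrict σ.ker fun x =>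
        (map_eq_one_iff _ e.injective).1 (x.2 : e (σ (s x.1)) = 1)
    refine ⟨r.comp π, fun y => ?_⟩
    obtain ⟨a, ha⟩ := hπ ⟨s.symm y.1, by rw [hk]; simpa using y.2⟩
    exact ⟨a, Subtype.ext (by
      show s (π a).1 = y.1
      rw [ha, MulEquiv.apply_symm_apply])⟩

/-- Two stem extensions with kernels of coprime orders give one with the product. -/
theorem exists_prod (hperf : commutator G = ⊤) {A B : Type} [CommGroup A] [CommGroup B]
    (hco : (Nat.card A).Coprime (Nat.card B))
    {X : Type} [Group X] [Finite X] {σ : X →* G} (hσ : Cfsg.IsStemExtension σ) (eX : σ.ker ≃* A)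
    {Y : Type} [Group Y] [Finite Y] {τ : Y →* G} (hτ : Cfsg.IsStemExtension τ) (eY : τ.ker ≃* B) :
    ∃ (E : Type) (_ : Group E) (_ : Finite E) (θ : E →* G),
      Cfsg.IsStemExtension θ ∧ Nonempty (θ.ker ≃* A × B) := by
  obtain ⟨hσs, hσc, hσd⟩ := hσ
  obtain ⟨hτs, hτc, hτd⟩ := hτ
  let P : Subgroup (X × Y) :=
    { carrier := {p | σ p.1 = τ p.2}
      one_mem' := by simp
      mul_mem' := fun {a b} ha hb => by
        simp only [Set.mem_setOf_eq, Prod.fst_mul, Prod.snd_mul, map_mul] at *
        rw [ha, hb]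
      inv_mem' := fun {a} ha => by
        simp only [Set.mem_setOf_eq, Prod.fst_inv, Prod.snd_inv, map_inv] at *
        rw [ha] }
  let p₁ : P →* X := (MonoidHom.fst X Y).comp P.subtype
  let p₂ : P →* Y := (MonoidHom.snd X Y).comp P.subtype
  let ρ : P →* G := σ.comp p₁
  have hp₁ : Function.Surjective p₁ := fun x => by
    obtain ⟨y, hy⟩ := hτs (σ x)
    exact ⟨⟨(x, y), hy.symm⟩, rfl⟩
  have hp₂ : Function.Surjective p₂ := fun y => by
    obtain ⟨x, hx⟩ := hσs (τ y)
    exact ⟨⟨(x, y), hx⟩, rfl⟩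
  have h2 : ∀ p : P, τ (p₂ p) = ρ p := fun p => p.2.symm
  have hρc : ρ.ker ≤ Subgroup.center P := fun p hp => Subgroup.mem_center_iff.2 fun g =>
    Subtype.ext (Prod.ext (Subgroup.mem_center_iff.1 (hσc (show p₁ p ∈ σ.ker from hp)) g.1.1)
      (Subgroup.mem_center_iff.1 (hτc (show p₂ p ∈ τ.ker by rw [MonoidHom.mem_ker, h2]; exact hp)) g.1.2))
  let D := commutator P
  let θ : D →* G := ρ.comp D.subtype
  have hst := stem_derived hperf ρ (hσs.comp hp₁) hρc
  let f₁ : θ.ker →* σ.ker := ((p₁.comp D.subtype).comp θ.ker.subtype).codRestrict σ.ker fun z => z.2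
  let f₂ : θ.ker →* τ.ker := ((p₂.comp D.subtype).comp θ.ker.subtype).codRestrict τ.ker fun z => by
    rw [MonoidHom.mem_ker]
    exact (h2 _).trans z.2
  let f : θ.ker →* A × B := (eX.toMonoidHom.comp f₁).prod (eY.toMonoidHom.comp f₂)
  have hf₁ : Function.Surjective f₁ := fun x => by
    obtain ⟨d, hd, e⟩ := ((map_commutator_top (perfect_of_stem hperf σ hσs hσd) p₁ hp₁).ge
      (Subgroup.mem_top (x : X)) : (x : X) ∈ _)
    exact ⟨⟨⟨d, hd⟩, show σ (p₁ d) = 1 by rw [e]; exact x.2⟩, Subtype.ext e⟩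
  have hf₂ : Function.Surjective f₂ := fun y => by
    obtain ⟨d, hd, e⟩ := ((map_commutator_top (perfect_of_stem hperf τ hτs hτd) p₂ hp₂).ge
      (Subgroup.mem_top (y : Y)) : (y : Y) ∈ _)
    exact ⟨⟨⟨d, hd⟩, show ρ d = 1 by rw [← h2, e]; exact y.2⟩, Subtype.ext e⟩
  have hinj : Function.Injective f := fun a b h => by
    have h1 : f₁ a = f₁ b := eX.injective (congrArg Prod.fst h)
    have h3 : f₂ a = f₂ b := eY.injective (congrArg Prod.snd h)
    exact Subtype.ext (Subtype.ext (Subtype.ext (Prod.ext (congrArg Subtype.val h1) (congrArg Subtype.val h3))))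
  haveI : Finite A := Finite.of_equiv _ eX.toEquiv
  haveI : Finite B := Finite.of_equiv _ eY.toEquiv
  have hsur : Function.Surjective f := by
    refine ((Nat.bijective_iff_injective_and_card _).2 ⟨hinj, le_antisymm
      (Nat.card_le_card_of_injective f hinj) (Nat.le_of_dvd Nat.card_pos ?_)⟩).2
    rw [Nat.card_prod]
    refine hco.mul_dvd_of_dvd_of_dvd ?_ ?_
    · exact Subgroup.card_dvd_of_surjective (eX.toMonoidHom.comp f₁) (eX.surjective.comp hf₁)
    · exact Subgroup.card_dvd_of_surjective (eY.toMonoidHom.comp f₂) (eY.surjective.comp hf₂)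
  exact ⟨D, inferInstance, inferInstance, θ, hst, ⟨MulEquiv.ofBijective f ⟨hinj, hsur⟩⟩⟩

end Cfsg.Agent.MonomialMult
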